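import Mathlib

/-! # Fixed points on a product of two classes of the alternating group -/

set_option autoImplicit false

namespace Cfsg.Lib.Alt

open Equiv Finset

variable {α : Type*} [Fintype α] [DecidableEq α]

/-- The sum of `A` over the orbit of `(i, j)` under the Klein four-group on `i, j, k, l`. -/
def quadSum (A : α → α → ℤ) (i j k l : α) : ℤ := A i j + A j i + A k l + A l k

theorem quad_of_const (A B : α → α → ℤ) (ι : Fin 4 ↪ α) {c : ℤ}
    (H : ∀ g : Perm (Fin 4), Perm.sign g = 1 →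
      ∑ x, ∑ y, A (g.viaEmbedding ι x) (g.viaEmbedding ι y) * B x y = c) :
    quadSum A (ι 0) (ι 1) (ι 2) (ι 3) = quadSum A (ι 0) (ι 3) (ι 2) (ι 1) ∨
      quadSum B (ι 0) (ι 1) (ι 2) (ι 3) = quadSum B (ι 0) (ι 3) (ι 2) (ι 1) := by
  have sp : ∀ f : α → ℤ, ∑ x, f x = ∑ i, f (ι i) + ∑ x : {x // x ∉ Set.range ι}, f x := fun f => by
    rw [← Fintype.sum_subtype_add_sum_subtype (· ∈ Set.range ι)]
    congr 1
    convert (Fintype.sum_equiv (Equiv.ofInjective ι ι.injective) _ (fun x => f x) fun _ => rfl).symm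
    rfl
  have out : ∀ (g : Perm (Fin 4)) (x : {x // x ∉ Set.range ι}), g.viaEmbedding ι x = x :=
    fun g x => g.viaEmbedding_apply_of_notMem ι x x.2
  have H' : ∀ g : Perm (Fin 4), Perm.sign g = 1 → ∑ i, ∑ j, A (ι (g i)) (ι (g j)) * B (ι i) (ι j) +
      ∑ y : {x // x ∉ Set.range ι}, ∑ i, (A (ι (g i)) y * B (ι i) y + A y (ι (g i)) * B y (ι i)) =
      c - ∑ x : {x // x ∉ Set.range ι}, ∑ y : {x // x ∉ Set.range ι}, A x y * B x y := fun g hg => by
    rw [← H g hg, sp]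
    simp only [sp fun y => A _ (g.viaEmbedding ι y) * B _ y, Perm.viaEmbedding_apply, sum_add_distrib,
      out]
    rw [sum_comm (f := fun (y : {x // x ∉ Set.range ι}) i => A (ι (g i)) y * B (ι i) y)]
    ring
  have T : ∀ g : Perm (Fin 4), Perm.sign g = 1 →
      ∑ i, ∑ j, (A (ι (g i)) (ι (g j)) + A (ι (g (![1, 0, 3, 2] i))) (ι (g (![1, 0, 3, 2] j))) +
        A (ι (g (![2, 3, 0, 1] i))) (ι (g (![2, 3, 0, 1] j))) +
        A (ι (g (![3, 2, 1, 0] i))) (ι (g (![3, 2, 1, 0] j)))) * B (ι i) (ι j) +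
      ∑ y : {x // x ∉ Set.range ι}, ((∑ i, A (ι i) y) * ∑ i, B (ι i) y + (∑ i, A y (ι i)) * ∑ i, B y (ι i)) =
      4 * (c - ∑ x : {x // x ∉ Set.range ι}, ∑ y : {x // x ∉ Set.range ι}, A x y * B x y) :=
    fun g hg => by
    have h0 := H' g hg
    have h1 := H' (g * (⟨![1, 0, 3, 2], ![1, 0, 3, 2], by decide, by decide⟩ : Perm (Fin 4)))
      ((map_mul _ _ _).trans (by rw [hg]; decide))
    have h2 := H' (g * (⟨![2, 3, 0, 1], ![2, 3, 0, 1], by decide, by decide⟩ : Perm (Fin 4)))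
      ((map_mul _ _ _).trans (by rw [hg]; decide))
    have h3 := H' (g * (⟨![3, 2, 1, 0], ![3, 2, 1, 0], by decide, by decide⟩ : Perm (Fin 4)))
      ((map_mul _ _ _).trans (by rw [hg]; decide))
    rw [show ∀ x : ℤ, 4 * x = x + x + x + x from fun x => by ring]
    conv_rhs => enter [1, 1, 1]; rw [← h0]
    conv_rhs => enter [1, 1, 2]; rw [← h1]
    conv_rhs => enter [1, 2]; rw [← h2]
    conv_rhs => enter [2]; rw [← h3]
    simp only [add_mul, sum_add_distrib (s := (univ : Finset (Fin 4))), Perm.mul_apply, coe_fn_mk]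
    rw [show ∀ a b c d a' b' c' d' : ℤ, a + a' + (b + b') + (c + c') + (d + d') =
      a + b + c + d + (a' + b' + c' + d') from fun _ _ _ _ _ _ _ _ => by ring]
    simp only [← sum_add_distrib (s := (univ : Finset {x // x ∉ Set.range ι}))]
    refine congrArg _ (sum_congr rfl fun y _ => ?_)
    rw [← Equiv.sum_comp g fun i => A (ι i) y, ← Equiv.sum_comp g fun i => A y (ι i)]
    simp [Fin.sum_univ_four]
    ring
  have t0 := T 1 (map_one _)
  have t1 := T (⟨![0, 2, 3, 1], ![0, 3, 1, 2], by decide, by decide⟩ : Perm (Fin 4)) (by decide)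
  have t2 := T (⟨![0, 3, 1, 2], ![0, 2, 3, 1], by decide, by decide⟩ : Perm (Fin 4)) (by decide)
  have e1 := t0.trans t1.symm
  have e2 := t0.trans t2.symm
  simp only [add_left_inj] at e1 e2
  simp [Fin.sum_univ_four] at e1 e2
  by_contra! k
  obtain ⟨x, hx⟩ : ∃ x, x = quadSum A (ι 0) (ι 1) (ι 2) (ι 3) - quadSum A (ι 0) (ι 3) (ι 2) (ι 1) :=
    ⟨_, rfl⟩
  obtain ⟨y, hy⟩ : ∃ y, y = quadSum A (ι 0) (ι 3) (ι 2) (ι 1) - quadSum A (ι 0) (ι 2) (ι 1) (ι 3) :=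
    ⟨_, rfl⟩
  obtain ⟨s, hs⟩ : ∃ x, x = quadSum B (ι 0) (ι 1) (ι 2) (ι 3) - quadSum B (ι 0) (ι 3) (ι 2) (ι 1) :=
    ⟨_, rfl⟩
  obtain ⟨t, ht⟩ : ∃ x, x = quadSum B (ι 0) (ι 2) (ι 1) (ι 3) - quadSum B (ι 0) (ι 3) (ι 2) (ι 1) :=
    ⟨_, rfl⟩
  have h0 : x ≠ 0 := hx ▸ sub_ne_zero.2 k.1
  have h1 : s ≠ 0 := hs ▸ sub_ne_zero.2 k.2
  simp only [quadSum] at hx hy hs ht
  have e3 : (x + y) * s - y * t = 0 := by rw [hx, hy, hs, ht]; linear_combination e1
  have e4 : x * s - (x + y) * t = 0 := by rw [hx, hy, hs, ht]; linear_combination e2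
  exact mul_ne_zero (a := (x + 2 * y) ^ 2 + 3 * x ^ 2) (by positivity) h1
    (by linear_combination 4 * (x + y) * e3 - 4 * y * e4)

theorem exists_quad (h5 : 5 ≤ Fintype.card α) {a : Perm α} (ha : a ≠ 1) {A : α → α → ℤ}
    (hA : ∀ x y, A x y = if a x = y then 1 else 0) : ∃ ι : Fin 4 ↪ α,
      quadSum A (ι 0) (ι 1) (ι 2) (ι 3) ≠ quadSum A (ι 0) (ι 3) (ι 2) (ι 1) := by
  obtain ⟨i, hi⟩ : ∃ i, a i ≠ i := by
    by_contra! h
    exact ha (Equiv.ext h)
  have ex : ∀ x y z w : α, ∃ l, l ≠ x ∧ l ≠ y ∧ l ≠ z ∧ l ≠ w := fun x y z w => by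
    obtain ⟨l, -, hl⟩ := exists_mem_notMem_of_card_lt_card (s := {x, y, z, w}) (t := univ)
      ((card_le_four).trans_lt h5)
    exact ⟨l, by simpa using hl⟩
  obtain ⟨l, l1, l2, l3, -⟩ := ex i (a i) (a⁻¹ i) i
  obtain ⟨k, k1, k2, k3, k4⟩ := ex i (a i) (a (a i)) l
  refine ⟨⟨![i, a i, k, l], List.nodup_ofFn.1 ?_⟩, ?_⟩
  · simp [hi.symm, k4, l1.symm, l2.symm, k1.symm, k2.symm]
  have l4 : a l ≠ i := fun h => l3 (by simp [← h])
  have l5 : a k ≠ a i := a.injective.ne k1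
  change quadSum A i (a i) k l ≠ quadSum A i l k (a i)
  simp only [quadSum, hA, if_neg l2.symm, if_neg l4, if_neg l5, if_neg k3.symm, if_true]
  split_ifs <;> omega

theorem exists_fixed_ne (h5 : 5 ≤ Fintype.card α) {a b : Perm α} (ha : a ≠ 1) (hb : b ≠ 1) :
    ∃ h ∈ alternatingGroup α, Nat.card (Function.fixedPoints (a * b)) ≠
      Nat.card (Function.fixedPoints (a * (h * b * h⁻¹))) := by
  by_contra! H
  have cnt : ∀ h : Perm α, (Nat.card (Function.fixedPoints (a * (h * b * h⁻¹))) : ℤ) =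
      ∑ x, ∑ y, (if a⁻¹ (h x) = h y then 1 else 0) * if b x = y then 1 else 0 := fun h => by
    rw [Nat.card_eq_fintype_card, Fintype.card_subtype, card_filter, ← Equiv.sum_comp h]
    push_cast
    refine sum_congr rfl fun x _ => ?_
    simp [Function.IsFixedPt, eq_symm_apply, eq_comm]
  obtain ⟨ι, hι⟩ := exists_quad h5 (inv_ne_one.2 ha) fun _ _ => rfl
  obtain ⟨κ, hκ⟩ := exists_quad h5 hb fun _ _ => rfl
  obtain ⟨h, κ, h1, h2, hκ⟩ : ∃ (h : Perm α) (κ : Fin 4 ↪ α), Perm.sign h = 1 ∧ (∀ i, h (κ i) = ι i) ∧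
      quadSum (fun x y => if b x = y then 1 else 0) (κ 0) (κ 1) (κ 2) (κ 3) ≠
        quadSum (fun x y => if b x = y then 1 else 0) (κ 0) (κ 3) (κ 2) (κ 1) := by
    obtain ⟨h, hh⟩ := Perm.exists_extending_pair (f := κ) (g := ι) κ.injective ι.injective
    rcases Int.units_eq_one_or (Perm.sign h) with k | k
    · exact ⟨h, κ, k, hh, hκ⟩
    refine ⟨h * swap (κ 1) (κ 3), (swap 1 3).toEmbedding.trans κ, by simp [k], fun i => ?_, hκ.symm⟩
    simp [κ.injective.swap_apply, hh]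
  refine (quad_of_const (fun x y => if a⁻¹ (h x) = h y then 1 else 0) _ κ
    (c := Nat.card (Function.fixedPoints (a * b))) (fun g hg => ?_)).elim
    (fun k => hι ?_) hκ
  · exact (cnt (h * g.viaEmbedding κ)).symm.trans (congrArg _ (H _ (by
      simp [h1, Perm.viaEmbedding, hg])).symm)
  · simpa [quadSum, h2] using k

end Cfsg.Lib.Alt
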