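import Mathlib

/-!
# Free pairs of `p`-elements in alternating groups: tools
-/

set_option autoImplicit false

namespace Cfsg.Lib.Alt.FP

open Equiv Equiv.Perm Subgroup Finset
open scoped commutatorElement

/-- The product is not a `p`-element and the pair generates a non-solvable group. -/
def Q (p : ℕ) {G : Type*} [Group G] (a b : G) : Prop :=
  (¬ ∃ k : ℕ, orderOf (a * b) = p ^ k) ∧ ¬ Group.IsSolvable (closure ({a, b} : Set G))

section
variable {p : ℕ} {G G' : Type*} [Group G] [Group G'] {a b : G}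

theorem Q.of_map (hp : p.Prime) (φ : G →* G') (h : Q p (φ a) (φ b)) : Q p a b := by
  refine ⟨fun ⟨k, hk⟩ => h.1 ?_, fun hs => h.2 ?_⟩
  · obtain ⟨j, -, hj⟩ := (Nat.dvd_prime_pow hp).1 (hk ▸ orderOf_map_dvd φ (a * b))
    exact ⟨j, by rw [← map_mul, hj]⟩
  · rw [← Set.image_pair, ← MonoidHom.map_closure]
    exact Group.isSolvable_of_surjective (φ.subgroupMap_surjective _)

theorem Q.map (φ : G →* G') (hφ : Function.Injective φ) (h : Q p a b) : Q p (φ a) (φ b) := by
  refine ⟨by rw [← map_mul, orderOf_injective φ hφ]; exact h.1, fun hs => h.2 ?_⟩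
  rw [← Set.image_pair, ← MonoidHom.map_closure] at hs
  exact Group.isSolvable_of_isSolvable_injective (f := (equivMapOfInjective (closure {a, b}) φ hφ).toMonoidHom)
    (equivMapOfInjective (closure {a, b}) φ hφ).injective

theorem Q.conj (h : Q p a b) (g : G) : Q p (g * a * g⁻¹) (g * b * g⁻¹) :=
  h.map (MulAut.conj g).toMonoidHom (MulAut.conj g).injective

theorem Q.symm (h : Q p a b) : Q p b a := by
  have := h.conj b
  refine ⟨by simpa [mul_assoc] using this.1, by rw [Set.pair_comm]; exact h.2⟩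

theorem not_solv {H : Subgroup G} {x y z : G} (hx : x ∈ H) (hy : y ∈ H) (hz : z ∈ H) (h1 : x ≠ 1)
    (key : x = z * ⁅x, y * x * y⁻¹⁆ * z⁻¹) : ¬ Group.IsSolvable H := by
  refine not_isSolvable_of_mem_derivedSeries (g := ⟨x, hx⟩) (fun h => h1 (congrArg Subtype.val h)) fun n => ?_
  induction n with
  | zero => exact mem_top _
  | succ n ih =>
    have : (⟨x, hx⟩ : H) = ⟨z, hz⟩ * ⁅(⟨x, hx⟩ : H), ⟨y, hy⟩ * ⟨x, hx⟩ * ⟨y, hy⟩⁻¹⁆ * ⟨z, hz⟩⁻¹ :=
      Subtype.ext key
    rw [this]
    exact (derivedSeries_normal _ _).conj_mem _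
      (commutator_mem_commutator ih ((derivedSeries_normal _ _).conj_mem _ ih _)) _
end

variable {α : Type*} [Fintype α] [DecidableEq α] {p : ℕ}

omit [Fintype α] in
theorem via_swap {β : Type*} [DecidableEq β] (ι : β ↪ α) (i j : β) :
    viaEmbeddingHom ι (swap i j) = swap (ι i) (ι j) := by
  ext x
  rw [viaEmbeddingHom_apply]
  by_cases h : x ∈ Set.range ι
  · obtain ⟨k, rfl⟩ := h
    rw [viaEmbedding_apply, ι.injective.swap_apply]
  · rw [viaEmbedding_apply_of_notMem _ _ _ h, swap_apply_of_ne_of_ne (fun e => h ⟨_, e.symm⟩) fun e => h ⟨_, e.symm⟩]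

omit [Fintype α] in
theorem not_solv_five {H : Subgroup (Perm α)} (ι : Fin 5 ↪ α) (h1 : swap (ι 0) (ι 1) * swap (ι 1) (ι 2) ∈ H)
    (h2 : swap (ι 2) (ι 3) * swap (ι 3) (ι 4) ∈ H) : ¬ Group.IsSolvable H := by
  simp only [← via_swap, ← map_mul] at h1 h2
  refine not_solv h1 (mul_mem (mul_mem (mul_mem h2 h1) h1) h2) h2
    (fun h => absurd (viaEmbeddingHom_injective ι (h.trans (map_one _).symm)) (by decide)) ?_
  simp only [commutatorElement_def, ← map_mul, ← map_inv]
  exact congrArg _ (by decide +kernel)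

/-- A cycle through all points. -/
abbrev Full (u : Perm α) : Prop := u.IsCycleOn ((univ : Finset α) : Set α)

theorem Full.eq_iff {u : Perm α} (hu : Full u) (y : α) {i j : ℕ} :
    (u ^ i) y = (u ^ j) y ↔ i ≡ j [MOD Fintype.card α] := hu.pow_apply_eq_pow_apply (mem_univ y)

theorem Full.ne {u : Perm α} (hu : Full u) (y : α) {i j : ℕ} (hi : i < Fintype.card α)
    (hj : j < Fintype.card α) (h : i ≠ j) : (u ^ i) y ≠ (u ^ j) y :=
  fun e => h (Nat.ModEq.eq_of_lt_of_lt ((hu.eq_iff y).1 e) hi hj)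

theorem K0 {H : Subgroup (Perm α)} {u : Perm α} (hu : Full u) (h5 : 5 ≤ Fintype.card α) (hH : u ∈ H) {y : α}
    {δ : ℕ} (hδ : δ.Coprime (Fintype.card α))
    (h : swap y ((u ^ δ) y) * swap ((u ^ δ) y) ((u ^ (2 * δ)) y) ∈ H) : ¬ Group.IsSolvable H := by
  let ι : Fin 5 ↪ α := ⟨fun i => (u ^ (i * δ)) y, fun i j e => Fin.ext (Nat.ModEq.eq_of_lt_of_lt
    (Nat.ModEq.cancel_right_of_coprime hδ.symm ((hu.eq_iff y).1 e)) (by omega) (by omega))⟩
  have hι : ∀ i : Fin 5, ι i = (u ^ (i * δ)) y := fun _ => rfl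
  refine not_solv_five ι (by simpa [hι] using h) ?_
  have := mul_mem (mul_mem (pow_mem hH (2 * δ)) h) (inv_mem (pow_mem hH (2 * δ)))
  rw [← conj_mul, ← swap_apply_apply, ← swap_apply_apply] at this
  simp only [← mul_apply, ← pow_add] at this
  rw [show 2 * δ + δ = 3 * δ by ring, show 2 * δ + 2 * δ = 4 * δ by ring] at this
  simpa [hι] using this

theorem K1 {H : Subgroup (Perm α)} {u : Perm α} (hu : Full u) (h5 : 5 ≤ Fintype.card α) (hH : u ∈ H) {y : α}
    {δ ε : ℕ} (hδ : δ.Coprime (Fintype.card α)) (hε : ε.Coprime (Fintype.card α))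
    (h : swap y ((u ^ δ) y) * swap ((u ^ ε) y) ((u ^ (ε + δ)) y) ∈ H) : ¬ Group.IsSolvable H := by
  have k : ∀ j, swap y ((u ^ δ) y) * swap ((u ^ (ε * j)) y) ((u ^ (ε * j + δ)) y) ∈ H := fun j => by
    induction j with
    | zero => simp
    | succ j ih =>
      have := mul_mem ih (mul_mem (mul_mem (pow_mem hH (ε * j)) h) (inv_mem (pow_mem hH (ε * j))))
      rw [← conj_mul, ← swap_apply_apply, ← swap_apply_apply] at this
      simp only [← mul_apply, ← pow_add] at this
      rw [mul_assoc, ← mul_assoc (swap ((u ^ (ε * j)) y) _), swap_mul_self, one_mul] at this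
      rwa [mul_add, mul_one, add_assoc]
  obtain ⟨j, -, hj⟩ := Nat.exists_mul_mod_eq_of_coprime δ hε (by omega)
  refine K0 hu h5 hH (y := y) hδ ?_
  have := k j
  rwa [(hu.eq_iff y).2 hj, (hu.eq_iff y (i := ε * j + δ) (j := 2 * δ)).2
    (by rw [two_mul]; exact Nat.ModEq.add_right _ hj)] at this

theorem Q_of {u w : Perm α} (hp : Odd p) (hu : Full u) (h5 : 5 ≤ Fintype.card α) {y : α}
    {δ ε : ℕ} (hδ : δ.Coprime (Fintype.card α)) (hε : ε.Coprime (Fintype.card α)) (h0 : δ ≠ ε)
    (h1 : ε + δ < Fintype.card α) {m : ℕ}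
    (h : (u * w) ^ m = swap y ((u ^ δ) y) * swap ((u ^ ε) y) ((u ^ (ε + δ)) y)) : Q p u w := by
  have hH : u ∈ closure ({u, w} : Set (Perm α)) := subset_closure (by simp)
  refine ⟨fun ⟨k, hk⟩ => ?_, K1 hu h5 hH hδ hε (h ▸ pow_mem (mul_mem hH (subset_closure (by simp))) m)⟩
  have a : δ ≠ 0 := fun e => by simp [e] at hδ; omega
  have b : ε ≠ 0 := fun e => by simp [e] at hε; omega
  have n1 : y ≠ (u ^ δ) y := hu.ne y (i := 0) (by omega) (by omega) a.symm
  have n2 : y ≠ (u ^ ε) y := hu.ne y (i := 0) (by omega) (by omega) b.symm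
  have n3 : y ≠ (u ^ (ε + δ)) y := hu.ne y (i := 0) (by omega) (by omega) (by omega)
  have D := disjoint_swap_swap (x := y) (y := (u ^ δ) y) (z := (u ^ ε) y) (t := (u ^ (ε + δ)) y) (by
    simp [n1, n2, n3, hu.ne y (i := δ) (j := ε) (by omega) (by omega) h0,
      hu.ne y (i := δ) (j := ε + δ) (by omega) (by omega) (by omega),
      hu.ne y (i := ε) (j := ε + δ) (by omega) (by omega) (by omega)])
  have e2 : ((u * w) ^ m) ^ 2 = 1 := by
    rw [h, sq, D.commute.symm.mul_mul_mul_comm, swap_mul_self, swap_mul_self, one_mul]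
  have e3 : orderOf ((u * w) ^ m) = 1 := Nat.eq_one_of_dvd_coprimes ((Nat.coprime_two_left.2 (hp.pow (n := k))))
    (orderOf_dvd_of_pow_eq_one e2) (hk ▸ orderOf_pow_dvd m)
  have := congrArg (· y) (h.symm.trans (orderOf_eq_one_iff.1 e3))
  simp [swap_apply_of_ne_of_ne n2 n3] at this
  exact n1 this.symm

theorem sameCycle_swap_aux {h : Perm α} {a y x : α} (hy : ¬ SameCycle h a y) (hx : SameCycle h a x) :
    SameCycle (swap a y * h) a x := by
  obtain ⟨i, -, rfl⟩ := hx.exists_pow_eq'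
  clear hx
  induction i with
  | zero => exact SameCycle.refl _ _
  | succ i ih =>
    by_cases e : (h ^ (i + 1)) a = a
    · rw [e]
    have e' : (h ^ (i + 1)) a ≠ y := fun k => hy ⟨(i + 1 : ℕ), by rw [zpow_natCast, k]⟩
    rw [show (h ^ (i + 1)) a = (swap a y * h) ((h ^ i) a) by
      rw [mul_apply, ← mul_apply h, ← pow_succ', swap_apply_of_ne_of_ne e e']]
    exact sameCycle_apply_right.2 ih

theorem sameCycle_swap {h : Perm α} {a y : α} (hy : ¬ SameCycle h a y) : SameCycle (swap a y * h) a y := by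
  have := sameCycle_apply_right.2 (sameCycle_swap_aux hy (x := h⁻¹ a) ⟨-1, by simp⟩)
  simpa using this

theorem ext_aux (v w : Perm α) (a : α) (hv : v a = a) (n : ℕ) : ∀ γ : Perm α, γ.Disjoint v →
    (∀ x, γ x ≠ x → SameCycle γ a x) → (∀ x, ¬ SameCycle (γ * v * w) a x → γ x = x ∧ v x = x) →
    (univ.filter fun x => ¬ SameCycle (γ * v * w) a x).card ≤ n →
    ∃ γ' : Perm α, γ'.Disjoint v ∧ (∀ x, γ' x ≠ x → SameCycle γ' a x) ∧ Full (γ' * v * w) ∧
      ∀ x, SameCycle (γ * v * w) a x → (γ * v * w) x ≠ a → (γ' * v * w) x = (γ * v * w) x := by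
  induction n with
  | zero =>
    intro γ h1 h2 _ h4
    have : ∀ x, SameCycle (γ * v * w) a x := by simpa using h4
    exact ⟨γ, h1, h2, ⟨by simpa using (γ * v * w).bijective.bijOn_univ, fun x _ y _ => (this x).symm.trans (this y)⟩,
      fun _ _ _ => rfl⟩
  | succ n ih =>
    intro γ h1 h2 h3 h4
    by_cases h5 : (univ.filter fun x => ¬ SameCycle (γ * v * w) a x).card ≤ n
    · exact ih γ h1 h2 h3 h5
    obtain ⟨y, hy⟩ : (univ.filter fun x => ¬ SameCycle (γ * v * w) a x).Nonempty := card_pos.1 (by omega)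
    replace hy := (mem_filter.1 hy).2
    have hay : a ≠ y := fun e => hy (e ▸ SameCycle.refl _ _)
    have e : swap a y * γ * v * w = swap a y * (γ * v * w) := by simp only [mul_assoc]
    have hγ : ¬ SameCycle γ a y := fun k => hay (k.eq_of_right (h3 y hy).1)
    obtain ⟨γ', g1, g2, g3, g4⟩ := ih (swap a y * γ) (fun x => by
        by_cases k : v x = x
        · exact Or.inr k
        · rw [mul_apply, (h1 x).resolve_right k]
          exact Or.inl (swap_apply_of_ne_of_ne (fun j => k (j ▸ hv)) fun j => k (j ▸ (h3 y hy).2)))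
      (fun x hx => by
        by_cases k : γ x = x
        · rw [mul_apply, k] at hx
          rcases eq_or_eq_of_swap_apply_ne_self hx with rfl | rfl
          · exact SameCycle.refl _ _
          · exact sameCycle_swap hγ
        · exact sameCycle_swap_aux hγ (h2 x k))
      (fun x hx => by
        rw [e] at hx
        have k := h3 x fun k => hx (sameCycle_swap_aux hy k)
        rw [mul_apply, k.1]
        exact ⟨swap_apply_of_ne_of_ne (fun j => hx (j ▸ SameCycle.refl _ _)) fun j => hx (by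
          rw [j]; exact sameCycle_swap hy), k.2⟩)
      (by
        rw [e]
        refine Nat.le_of_lt_succ (lt_of_lt_of_le (card_lt_card ⟨fun x hx => ?_, fun k => ?_⟩) h4)
        · exact mem_filter.2 ⟨mem_univ _, fun k => (mem_filter.1 hx).2 (sameCycle_swap_aux hy k)⟩
        · exact (mem_filter.1 (k (mem_filter.2 ⟨mem_univ _, hy⟩))).2 (sameCycle_swap hy))
    refine ⟨γ', g1, g2, g3, fun x hx hx' => ?_⟩
    have k : (swap a y * γ * v * w) x = (γ * v * w) x := by
      rw [e, mul_apply, swap_apply_of_ne_of_ne hx' fun j => hy (by rw [← j]; exact sameCycle_apply_right.2 hx)]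
    rw [g4 x (e ▸ sameCycle_swap_aux hy hx) (k ▸ hx'), k]

end Cfsg.Lib.Alt.FP
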