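import Cfsg.Agent.Lib.Alt.FreeA

/-!
# Free pairs of `p`-elements in alternating groups: the case of a full cycle
-/

set_option autoImplicit false

namespace Cfsg.Lib.Alt.FP

open Equiv Equiv.Perm Subgroup Finset

variable {α : Type*} [Fintype α] [DecidableEq α] {p : ℕ} {u w : Perm α}

/-- Some even conjugate of `w` forms a free pair with `u`. -/
def R (p : ℕ) (u w : Perm α) : Prop := ∃ g : Perm α, sign g = 1 ∧ Q p u (g * w * g⁻¹)

theorem R.symm (h : R p u w) : R p w u := by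
  obtain ⟨g, h1, h2⟩ := h
  exact ⟨g⁻¹, by simpa using h1, by simpa [mul_assoc] using (h2.conj g⁻¹).symm⟩

theorem R_of_odd {u0 w0 t : Perm α} (h : Q p u0 w0) (hu : IsConj u u0) (hw : IsConj w w0)
    (ht : sign t = -1) (hc : t * w0 = w0 * t) : R p u w := by
  obtain ⟨a, rfl⟩ := isConj_iff.1 hu
  obtain ⟨b, hb⟩ := isConj_iff.1 hw
  have h1 : Q p u (a⁻¹ * w0 * a⁻¹⁻¹) := by simpa [mul_assoc] using h.conj a⁻¹
  rcases Int.units_eq_one_or (sign (a⁻¹ * b)) with s | s
  · exact ⟨_, s, by convert h1 using 1; rw [← hb]; group⟩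
  · refine ⟨a⁻¹ * t * b, by rw [map_mul, map_mul, mul_right_comm, ← map_mul, s, ht]; rfl, ?_⟩
    convert h1 using 1
    rw [show a⁻¹ * t * b * w * (a⁻¹ * t * b)⁻¹ = a⁻¹ * (t * (b * w * b⁻¹) * t⁻¹) * a by group, hb, hc]
    group

theorem Full.support (hu : Full u) (h : 1 < Fintype.card α) : u.support = univ := by
  haveI := Fintype.one_lt_card_iff_nontrivial.1 h
  exact eq_univ_of_forall fun x => mem_support.2 (hu.apply_ne (by simpa using Set.nontrivial_univ) (by simp))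

theorem Full.isCycle (hu : Full u) (h : 1 < Fintype.card α) : u.IsCycle := by
  obtain ⟨x⟩ := Fintype.card_pos_iff.1 (show 0 < Fintype.card α by omega)
  exact ⟨x, mem_support.1 (hu.support h ▸ mem_univ x), fun y _ => hu.2 (by simp) (by simp)⟩

theorem Full.isConj (hu : Full u) (hw : Full w) (h : 1 < Fintype.card α) : IsConj u w :=
  (hu.isCycle h).isConj (hw.isCycle h) (by rw [hu.support h, hw.support h])

theorem sign_of_odd {q : ℕ} (hq : Odd q) (hw : w ^ q = 1) : sign w = 1 := by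
  have := congrArg sign hw
  rcases Int.units_eq_one_or (sign w) with s | s
  · exact s
  · rw [map_pow, s, hq.neg_one_pow, map_one] at this; exact absurd this (by decide)

theorem Q_ext (hp : Odd p) (ho : Odd (Fintype.card α)) (h5 : 5 ≤ Fintype.card α) (hw : sign w = 1)
    {γ v : Perm α} {a : α} {i δ ε : ℕ} (h1 : γ.Disjoint v) (h2 : ∀ x, γ x ≠ x → SameCycle γ a x)
    (h3 : ∀ x, γ x ≠ x → SameCycle (γ * v * w) a x)
    (h4 : ∀ j, 1 ≤ j → j ≤ ε + δ + i → ((γ * v * w) ^ j) a ≠ a) (hi : 1 ≤ i)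
    (hv : v = swap (((γ * v * w) ^ i) a) (((γ * v * w) ^ (δ + i)) a) *
      swap (((γ * v * w) ^ (ε + i)) a) (((γ * v * w) ^ (ε + δ + i)) a))
    (hδ : δ.Coprime (Fintype.card α)) (hε : ε.Coprime (Fintype.card α)) (h0 : δ ≠ ε)
    (h6 : ε + δ < Fintype.card α) : ∃ u, Full u ∧ Q p u w⁻¹ := by
  have hs : ∀ j : ℕ, SameCycle (γ * v * w) a (((γ * v * w) ^ j) a) := fun j => ⟨j, by rw [zpow_natCast]⟩
  obtain ⟨γ', g1, g2, g3, g4⟩ := ext_aux v w a (by
      rw [hv, mul_apply, swap_apply_of_ne_of_ne (h4 _ (by omega) (by omega)).symm (h4 _ (by omega) le_rfl).symm,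
        swap_apply_of_ne_of_ne (h4 _ hi (by omega)).symm (h4 _ (by omega) (by omega)).symm]) _ γ h1 h2
    (fun x hx => ⟨by_contra fun k => hx (h3 x k), by
      have : ∀ j : ℕ, x ≠ ((γ * v * w) ^ j) a := fun j e => hx (e ▸ hs j)
      rw [hv, mul_apply, swap_apply_of_ne_of_ne (this _) (this _), swap_apply_of_ne_of_ne (this _) (this _)]⟩) le_rfl
  have k : ∀ j, j ≤ ε + δ + i → ((γ * v * w) ^ j) a = ((γ' * v * w) ^ j) a := fun j hj => by
    induction j with
    | zero => rfl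
    | succ j ih =>
      have e : ∀ f : Perm α, (f ^ (j + 1)) a = f ((f ^ j) a) := fun f => by rw [pow_succ', mul_apply]
      rw [e, e, ← ih (by omega), g4 _ (hs j) (e _ ▸ h4 _ (by omega) hj)]
  rw [k _ (by omega), k _ (by omega), k _ (by omega), k _ le_rfl, pow_add, pow_add, pow_add _ (ε + δ)] at hv
  simp only [mul_apply _ (_ ^ i)] at hv
  set u := γ' * v * w
  set y := (u ^ i) a
  have a0 : δ ≠ 0 := fun e => by simp [e] at hδ; omega
  have b0 : ε ≠ 0 := fun e => by simp [e] at hε; omega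
  have n1 : y ≠ (u ^ δ) y := g3.ne y (i := 0) (by omega) (by omega) a0.symm
  have n2 := g3.ne y (i := ε) (j := ε + δ) (by omega) (by omega) (by omega)
  have D := disjoint_swap_swap (x := y) (y := (u ^ δ) y) (z := (u ^ ε) y) (t := (u ^ (ε + δ)) y) (by
    simp [n1, n2, show y ≠ (u ^ ε) y from g3.ne y (i := 0) (by omega) (by omega) b0.symm,
      show y ≠ (u ^ (ε + δ)) y from g3.ne y (i := 0) (by omega) (by omega) (by omega),
      g3.ne y (i := δ) (j := ε) (by omega) (by omega) h0,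
      g3.ne y (i := δ) (j := ε + δ) (by omega) (by omega) (by omega)])
  have e2 : v * v = 1 := by rw [hv, D.commute.symm.mul_mul_mul_comm, swap_mul_self, swap_mul_self, one_mul]
  have e3 : sign γ' = 1 := by
    have := (g3.isCycle (by omega)).sign
    rw [g3.support (by omega), card_univ, ho.neg_one_pow, map_mul, map_mul, hw, hv] at this
    simpa [n1, n2] using this
  have e4 : Odd (orderOf γ') := by
    by_cases e : γ' = 1
    · simp [e]
    obtain ⟨x, hx⟩ : ∃ x, γ' x ≠ x := by by_contra! k; exact e (Equiv.ext k)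
    have hc : γ'.IsCycle := ⟨x, hx, fun y hy => (g2 x hx).symm.trans (g2 y hy)⟩
    rw [hc.orderOf]
    by_contra k
    rw [hc.sign, (Nat.not_odd_iff_even.1 k).neg_one_pow] at e3
    exact absurd e3 (by decide)
  refine ⟨u, g3, Q_of hp g3 h5 hδ hε h0 h6 (m := orderOf γ') (y := y) ?_⟩
  obtain ⟨r, hr⟩ := e4
  rw [← hv, mul_inv_cancel_right, g1.commute.mul_pow, pow_orderOf_eq_one, one_mul, hr, pow_succ, pow_mul, sq, e2,
    one_pow, one_mul]

theorem Q_win (hp : Odd p) (ho : Odd (Fintype.card α)) (h5 : 5 ≤ Fintype.card α) (hw : sign w = 1) {m : ℕ}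
    (f : Fin (m + 1) → α) (hf : Function.Injective f) (w' γ v : Perm (Fin (m + 1))) (hι : ∀ k, w (f k) = f (w' k)) 
    (i0 i1 i2 i3 : Fin (m + 1)) {δ ε : ℕ} (h : (∀ x, γ x = x ∨ v x = x) ∧ (∀ x, γ x ≠ x → ∃ j : Fin (m + 1), (γ ^ j.1) 0 = x) ∧
      (∀ k : Fin (m + 1), ((γ * v * w') ^ k.1) 0 = k) ∧ v = swap i0 i1 * swap i2 i3 ∧ 1 ≤ i0.1 ∧
      δ + i0 = i1 ∧ ε + i0 = i2 ∧ ε + δ + i0 = i3 ∧ δ ≠ ε)
    (hδ : δ.Coprime (Fintype.card α)) (hε : ε.Coprime (Fintype.card α)) : ∃ u, Full u ∧ Q p u w⁻¹ := by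
  obtain ⟨h1, h2, h3, h4, h6, h7, h8, h9, h0⟩ := h
  let ι : Fin (m + 1) ↪ α := ⟨f, hf⟩
  change ∀ k, w (ι k) = ι (w' k) at hι
  have hm : m + 1 ≤ Fintype.card α := by simpa using Fintype.card_le_of_embedding ι
  have e : ∀ (f : Perm (Fin (m + 1))) k, viaEmbeddingHom ι f (ι k) = ι (f k) := fun f k => viaEmbedding_apply f ι k
  have e' : ∀ (f : Perm (Fin (m + 1))) x, viaEmbeddingHom ι f x ≠ x → ∃ k, f k ≠ k ∧ ι k = x := fun f x hx => by
    by_contra! k
    by_cases r : x ∈ Set.range ι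
    · obtain ⟨j, rfl⟩ := r
      exact k j (fun l => hx (by rw [e, l])) rfl
    · exact hx (viaEmbedding_apply_of_notMem f ι x r)
  have e1 : ∀ (j : ℕ) k, ((viaEmbeddingHom ι γ * viaEmbeddingHom ι v * w) ^ j) (ι k) = ι (((γ * v * w') ^ j) k) :=
    fun j k => by
      induction j with
      | zero => rfl
      | succ j ih => simp only [pow_succ', mul_apply, ih, hι, e]
  have e2 : ∀ k : Fin (m + 1), ((viaEmbeddingHom ι γ * viaEmbeddingHom ι v * w) ^ k.1) (ι 0) = ι k := fun k => by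
    rw [e1, h3]
  refine Q_ext hp ho h5 hw (γ := viaEmbeddingHom ι γ) (v := viaEmbeddingHom ι v) (a := ι 0) (i := i0)
    (fun x => ?_) (fun x hx => ?_) (fun x hx => ?_) (fun j j1 j2 => ?_) h6 ?_ hδ hε h0 (by omega)
  · by_contra! k
    obtain ⟨j, j1, rfl⟩ := e' _ _ k.1
    exact k.2 (by rw [e, (h1 j).resolve_left j1])
  · obtain ⟨j, j1, rfl⟩ := e' _ _ hx
    obtain ⟨l, rfl⟩ := h2 j j1
    exact ⟨l.1, by rw [zpow_natCast, ← map_pow, e]⟩
  · obtain ⟨j, -, rfl⟩ := e' _ _ hx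
    exact ⟨j.1, by rw [zpow_natCast, e2]⟩
  · rw [e2 ⟨j, by omega⟩]
    exact ι.injective.ne fun k => by simp at k; omega
  · rw [h7, h8, h9, e2, e2, e2, e2, h4, map_mul, via_swap, via_swap]

theorem Q_long (hp : Odd p) (ho : Odd (Fintype.card α)) (h5 : 5 ≤ Fintype.card α) (hw : sign w = 1) {a : α}
    (ha : ∀ j, 1 ≤ j → j ≤ 4 → (w ^ j) a ≠ a) : ∃ u, Full u ∧ Q p u w⁻¹ := by
  set s := swap (w a) ((w ^ 3) a)
  have e : (1 : Perm α) * (s * (w * s * w⁻¹)) * w = s * w * s⁻¹ := by simp [s, mul_assoc]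
  have h1 := ha 1 le_rfl (by omega)
  have hs : s a = a := swap_apply_of_ne_of_ne h1.symm (ha 3 (by omega) (by omega)).symm
  have e1 : ∀ j, ((s * w * s⁻¹) ^ j) a = s ((w ^ j) a) := fun j => by
    rw [conj_pow, mul_apply, mul_apply, show s⁻¹ a = a from hs]
  have n : ∀ i j, 1 ≤ j → j ≤ 4 → (w ^ (i + j)) a ≠ (w ^ i) a := fun i j j1 j2 k =>
    ha j j1 j2 ((w ^ i).injective (by rwa [← mul_apply, ← pow_add]))
  refine Q_ext hp ho h5 hw (γ := 1) (v := s * (w * s * w⁻¹)) (a := a) (i := 1) (δ := 2) (ε := 1)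
    (disjoint_one_left _) (by simp) (by simp) (fun j j1 j2 => ?_) le_rfl ?_ (Nat.coprime_two_left.2 ho) (by simp)
    (by omega) (by omega)
  · rw [e, e1]; exact fun k => ha j j1 j2 (s.injective (k.trans hs.symm))
  · rw [e, e1, e1, e1, e1, pow_one, swap_apply_left, swap_apply_right, swap_comm,
      show s ((w ^ (1 + 1)) a) = w (w a) from (swap_apply_of_ne_of_ne (by simpa using n 1 1 le_rfl (by omega))
        (n 2 1 le_rfl (by omega)).symm).trans (by simp [pow_succ]),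
      show s ((w ^ (1 + 2 + 1)) a) = w ((w ^ 3) a) from (swap_apply_of_ne_of_ne
        (by simpa using n 1 3 (by omega) (by omega)) (n 3 1 le_rfl (by omega))).trans (by simp [pow_succ]),
      swap_apply_apply]

theorem Q_three (ho : Odd (Fintype.card α)) (h9 : 9 ≤ Fintype.card α) (h3 : 3 ∣ Fintype.card α)
    (hw : w ^ 3 = 1) (h1 : w ≠ 1) : ∃ u, Full u ∧ Q 3 u w⁻¹ := by
  have hs := sign_of_odd (by decide) hw
  have hh : ∀ x, w (w (w x)) = x := fun x => by simpa [pow_succ] using congrArg (· x) hw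
  have hi := w.injective
  obtain ⟨a, ha⟩ : ∃ x, w x ≠ x := by by_contra! k; exact h1 (Equiv.ext k)
  by_cases hf : w.support = univ
  · have hf' : ∀ x, w x ≠ x := fun x => mem_support.1 (hf ▸ mem_univ x)
    obtain ⟨b, -, hb⟩ := exists_mem_notMem_of_card_lt_card (s := {a, w a, w (w a)}) (t := univ)
      (lt_of_le_of_lt card_le_three (by rw [card_univ]; omega))
    obtain ⟨c, -, hc⟩ := exists_mem_notMem_of_card_lt_card (s := {a, w a, w (w a), b, w b, w (w b)}) (t := univ)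
      (lt_of_le_of_lt card_le_six (by rw [card_univ]; omega))
    simp only [mem_insert, mem_singleton, not_or] at hb hc
    have := hh a; have := hh b; have := hh c; have := hf' b; have := hf' c
    refine Q_win (by decide) ho (by omega) hs ![a, b, w (w a), c, w (w b), w a, w b, w (w c), w c] ?_
      ⟨![5, 6, 0, 8, 1, 2, 4, 3, 7], ![2, 4, 5, 7, 6, 0, 1, 8, 3], by decide, by decide⟩
      ⟨![3, 1, 2, 8, 7, 5, 6, 0, 4], ![7, 1, 2, 0, 8, 5, 6, 4, 3], by decide, by decide⟩ (swap 1 5 * swap 2 6)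
      (fun k => by fin_cases k <;> simp [hh]) 1 5 2 6 (δ := 4) (ε := 1) (by decide +kernel)
      (by simpa using (Nat.coprime_two_left.2 ho).pow_left 2) (by simp)
    refine List.nodup_ofFn.1 ?_
    simp only [List.ofFn_succ, List.ofFn_zero, Matrix.cons_val_zero, Matrix.cons_val_succ, List.nodup_cons,
      List.mem_cons, List.not_mem_nil, List.nodup_nil, not_or]
    and_intros <;> grind
  · have h4 : 3 ∣ w.support.card := by
      rw [← sum_cycleType]
      exact Multiset.dvd_sum fun n hn => by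
        have := (Nat.dvd_prime Nat.prime_three).1 ((dvd_of_mem_cycleType hn).trans (orderOf_dvd_of_pow_eq_one hw))
        have := two_le_of_mem_cycleType hn
        omega
    have h5 := (card_lt_iff_ne_univ _).2 hf
    obtain ⟨b, c, d, h⟩ := two_lt_card_iff.1 (show 2 < w.supportᶜ.card by rw [card_compl]; omega)
    simp only [mem_compl, mem_support, not_not] at h
    have := hh a
    refine Q_win (by decide) ho (by omega) hs ![a, b, w a, c, w (w a), d] ?_
      ⟨![2, 1, 4, 3, 0, 5], ![4, 1, 0, 3, 2, 5], by decide, by decide⟩ (swap 0 5) (swap 1 2 * swap 3 4)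
      (fun k => by fin_cases k <;> simp [hh, h]) 1 2 3 4 (δ := 1) (ε := 2) (by decide +kernel) (by simp)
      (Nat.coprime_two_left.2 ho)
    refine List.nodup_ofFn.1 ?_
    simp only [List.ofFn_succ, List.ofFn_zero, Matrix.cons_val_zero, Matrix.cons_val_succ, List.nodup_cons,
      List.mem_cons, List.not_mem_nil, List.nodup_nil, not_or]
    and_intros <;> grind

theorem Q_full (hp : p.Prime) (hp' : Odd p) (hu : Full u) (ho : Odd (Fintype.card α)) (h5 : 5 ≤ Fintype.card α)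
    (h : Fintype.card α = 5 → p = 5) (e : ℤˣ) : ∃ s : Perm α, sign s = e ∧ Q p u (s * u⁻¹ * s⁻¹) := by
  obtain ⟨y⟩ := Fintype.card_pos_iff.1 (show 0 < Fintype.card α by omega)
  have key : ∀ m ≤ Fintype.card α, ∃ ι : Fin m ↪ α, ∀ i, ι i = (u ^ i.1) y := fun m hm =>
    ⟨⟨fun i => (u ^ i.1) y, fun i j e => by_contra fun k => hu.ne y (by omega) (by omega) (Fin.val_ne_of_ne k) e⟩,
      fun _ => rfl⟩
  have c2 := Nat.coprime_two_left.2 ho
  have st : ∀ i j : ℕ, u * swap ((u ^ i) y) ((u ^ j) y) * u⁻¹ = swap ((u ^ (i + 1)) y) ((u ^ (j + 1)) y) :=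
    fun i j => by rw [← swap_apply_apply, pow_succ', pow_succ', mul_apply, mul_apply]
  rcases Int.units_eq_one_or e with rfl | rfl
  swap
  · obtain ⟨ι, hι⟩ := key 4 (by omega)
    refine ⟨swap (ι 0) (ι 2), sign_swap (ι.injective.ne (by decide)), Q_of hp' hu h5 (y := y) (δ := 2) (ε := 1) (m := 1)
      c2 (by simp) (by omega) (by omega) ?_⟩
    have : u * swap (ι 0) (ι 2) * u⁻¹ = swap (ι 1) (ι 3) := by simp only [hι]; exact st _ _
    rw [← mul_assoc, ← mul_assoc, this]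
    refine Eq.trans (b := swap (ι 0) (ι 2) * swap (ι 1) (ι 3)) ?_ (by simp [hι])
    simp only [← via_swap, ← map_mul, ← map_inv, ← map_pow]
    exact congrArg _ (by decide +kernel)
  by_cases h7 : 7 ≤ Fintype.card α
  · obtain ⟨ι, hι⟩ := key 7 h7
    refine ⟨swap (ι 0) (ι 2) * swap (ι 3) (ι 5), by simp [ι.injective.eq_iff], Q_of hp' hu h5 (y := y) (δ := 2)
      (ε := 4) (m := 3) c2 (by simpa using c2.pow_left 2) (by omega) (by omega) ?_⟩
    have : u * (swap (ι 0) (ι 2) * swap (ι 3) (ι 5)) * u⁻¹ = swap (ι 1) (ι 3) * swap (ι 4) (ι 6) := by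
      rw [← conj_mul]; simp only [hι]; rw [st, st]; rfl
    rw [← mul_assoc, ← mul_assoc, this]
    refine Eq.trans (b := swap (ι 0) (ι 2) * swap (ι 4) (ι 6)) ?_ (by simp [hι])
    simp only [← via_swap, ← map_mul, ← map_inv, ← map_pow]
    exact congrArg _ (by decide +kernel)
  have h5' : Fintype.card α = 5 := by obtain ⟨k, hk⟩ := ho; omega
  obtain ⟨ι, hι⟩ := key 5 h5
  refine ⟨swap (ι 0) (ι 1) * swap (ι 1) (ι 2), by simp [ι.injective.eq_iff], ?_⟩
  have : u * (swap (ι 0) (ι 1) * swap (ι 1) (ι 2) * u⁻¹ * (swap (ι 0) (ι 1) * swap (ι 1) (ι 2))⁻¹) =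
      (swap (ι 1) (ι 3) * swap (ι 3) (ι 0))⁻¹ := by
    have : u * (swap (ι 0) (ι 1) * swap (ι 1) (ι 2)) * u⁻¹ = swap (ι 1) (ι 2) * swap (ι 2) (ι 3) := by
      rw [← conj_mul]; simp only [hι]; rw [st, st]; rfl
    rw [← mul_assoc, ← mul_assoc, this]
    simp only [← via_swap, ← map_mul, ← map_inv]
    exact congrArg _ (by decide +kernel)
  refine ⟨fun ⟨k, hk⟩ => ?_, K0 hu h5 (subset_closure (by simp)) (y := u y) c2 ?_⟩
  · rw [this, orderOf_inv, swap_comm (ι 1), (isThreeCycle_swap_mul_swap_same (ι.injective.ne (by decide))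
      (ι.injective.ne (by decide)) (ι.injective.ne (by decide))).orderOf, h h5'] at hk
    rcases k with _ | k
    · simp at hk
    · rw [pow_succ] at hk; omega
  · have k := inv_mem (mul_mem (subset_closure (G := Perm α) (k := {u, _}) (Set.mem_insert _ _))
      (subset_closure (Set.mem_insert_of_mem _ (Set.mem_singleton (swap (ι 0) (ι 1) * swap (ι 1) (ι 2) * u⁻¹ *
        (swap (ι 0) (ι 1) * swap (ι 1) (ι 2))⁻¹)))))
    rw [this, inv_inv] at k
    have e5 : (u ^ (2 * 2 + 1)) y = (u ^ 0) y := (hu.eq_iff y).2 (by rw [h5']; rfl)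
    rw [← mul_apply, ← mul_apply (u ^ (2 * 2)), ← pow_succ, ← pow_succ, e5]
    convert k using 3 <;> simp [hι]

end Cfsg.Lib.Alt.FP
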