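import Cfsg.Agent.Lib.Alt.Arith
import Cfsg.Agent.Lib.Transfer.Fusion

/-! # Largest nilpotent subgroups of the symmetric and alternating groups -/

set_option autoImplicit false

namespace Cfsg.Lib.Alt

open Equiv MulAction Subgroup Nat

/-- The `2`-part of `n!`. -/
def s2 (n : ℕ) : ℕ := 2 ^ (n !).factorization 2

theorem le_s2 {k n : ℕ} (h : 2 ^ k ∣ n !) : 2 ^ k ≤ s2 n :=
  Nat.pow_le_pow_right two_pos ((prime_two.pow_dvd_iff_le_factorization n.factorial_ne_zero).1 h)

theorem s2_mul_le (a b : ℕ) : s2 a * s2 b ≤ s2 (a + b) := by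
  rw [s2, s2, ← pow_add]
  exact le_s2 (pow_add 2 _ _ ▸ (mul_dvd_mul (ordProj_dvd _ 2) (ordProj_dvd _ 2)).trans
    (factorial_mul_factorial_dvd_factorial_add a b))

theorem s2_mono {a b : ℕ} (h : a ≤ b) : s2 a ≤ s2 b :=
  le_s2 ((ordProj_dvd _ 2).trans (factorial_dvd_factorial h))

theorem s2_four (j : ℕ) : s2 (4 * j + 1) = s2 (4 * j) ∧ s2 (4 * j + 2) = 2 * s2 (4 * j) ∧
    s2 (4 * j + 3) = 2 * s2 (4 * j) ∧ 8 * s2 (4 * j) ≤ s2 (4 * j + 4) := by
  have h : ∀ r < 4, ((4 * j + r)!).factorization 2 = 3 * j + r / 2 + (j !).factorization 2 :=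
    fun r hr => by
    rw [factorization_factorial_rec prime_two, factorization_factorial_rec prime_two ((4 * j + r) / 2),
      show (4 * j + r) / 2 / 2 = j by omega]
    omega
  have h0 := h 0 (by omega)
  refine ⟨?_, ?_, ?_, (mul_comm _ _).trans_le
    ((Nat.mul_le_mul_left _ (by decide +kernel)).trans (s2_mul_le _ 4))⟩ <;>
  simp only [s2, h 1, h 2, h 3, show ((4 * j)!).factorization 2 = _ from h0, Nat.reduceLT] <;> ring

/-- The largest order of a nilpotent subgroup of `S_n`. -/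
def nilS (n : ℕ) : ℕ := if n % 4 = 3 then 3 * s2 (n - 3) else s2 n

/-- Twice the largest order of a nilpotent subgroup of `A_n`. -/
def nilA (n : ℕ) : ℕ := if n ≤ 1 then 2 else if n = 3 then 6 else if n = 5 then 10 else
  if n = 6 then 18 else if n = 9 then 162 else nilS n

theorem nilS_le (n : ℕ) : s2 n ≤ nilS n ∧ 2 * nilS n ≤ 3 * s2 n := by
  unfold nilS
  split_ifs with h
  · have := (s2_four (n / 4)).2.2.1
    rw [show 4 * (n / 4) = n - 3 by omega, show n - 3 + 3 = n by omega] at this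
    omega
  · omega

theorem nilA_le (n : ℕ) : nilS n ≤ nilA n ∧ nilA n ≤ 3 * s2 n := by
  by_cases h : n ≤ 9
  · interval_cases n <;> decide +kernel
  have := nilS_le n
  simp only [nilA, show ¬n ≤ 1 by omega, show n ≠ 3 by omega, show n ≠ 5 by omega, show n ≠ 6 by omega,
    show n ≠ 9 by omega, if_false]
  omega

theorem three_mul_nilS (k : ℕ) : 3 * nilS k ≤ nilS (k + 3) := by
  obtain ⟨j, r, hr, rfl⟩ : ∃ j r, r < 4 ∧ k = 4 * j + r :=
    ⟨k / 4, k % 4, Nat.mod_lt _ (by omega), by omega⟩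
  have h1 := s2_four j
  have h2 := s2_four (j + 1)
  unfold nilS
  interval_cases r <;> simp only [mul_add, add_assoc, Nat.mul_add_mod, Nat.add_sub_cancel, add_zero,
    zero_add] at h2 ⊢ <;> norm_num at h2 ⊢ <;> omega

/-- The bound on the order `t` of a transitive nilpotent group of degree `m` not a power of `2`. -/
def TB (m t : ℕ) : Prop :=
  3 * t ≤ s2 m ∨ t ≤ m ∧ (m = 3 ∨ m = 5 ∨ m = 6 ∨ m = 7) ∨ m = 9 ∧ t ≤ 81

theorem TB.mul_le {m t : ℕ} (h : TB m t) (k : ℕ) :
    t * nilS k ≤ nilS (k + m) ∧ t * nilA k ≤ nilA (k + m) := by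
  have a := s2_mul_le k m
  have b := nilS_le k
  have c := nilS_le (k + m)
  have d := nilA_le k
  have e := nilA_le (k + m)
  have h1 : t * nilS k ≤ nilS (k + m) := by
    by_cases h3 : m = 3 ∧ t ≤ 3
    · exact h3.1 ▸ (Nat.mul_le_mul_right _ h3.2).trans (three_mul_nilS k)
    have : 3 * t ≤ 2 * s2 m := by
      have : s2 5 = 8 ∧ s2 6 = 16 ∧ s2 7 = 16 ∧ s2 9 = 128 := by decide +kernel
      rcases h with h | ⟨h, rfl | rfl | rfl | rfl⟩ | ⟨rfl, h⟩ <;> omega
    nlinarith [Nat.mul_le_mul this b.2]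
  refine ⟨h1, ?_⟩
  rcases h with h | h
  · nlinarith [Nat.mul_le_mul h d.2]
  by_cases hk : k ≤ 9
  · rcases h with ⟨h, rfl | rfl | rfl | rfl⟩ | ⟨rfl, h⟩ <;>
      refine (Nat.mul_le_mul_right _ h).trans ?_ <;> interval_cases k <;> decide +kernel
  rw [show nilA k = nilS k by simp only [nilA, show ¬k ≤ 1 by omega, show k ≠ 3 by omega,
    show k ≠ 5 by omega, show k ≠ 6 by omega, show k ≠ 9 by omega, if_false]]
  exact h1.trans e.1

theorem tb_pow {p a v : ℕ} (hp : p.Prime) (h2 : p ≠ 2) (ha : a ≠ 0) (h : p ^ v ∣ (p ^ a)!) :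
    TB (p ^ a) (p ^ v) := by
  haveI := Fact.mk hp
  have h3 : 3 ≤ p := by have := hp.two_le; omega
  have hv : (p - 1) * v < p ^ a := (Nat.mul_le_mul_left _ ((padicValNat_dvd_iff_le
    (factorial_ne_zero _)).1 h)).trans_lt (sub_one_mul_padicValNat_factorial_lt_of_ne_zero _
      (pow_pos hp.pos a).ne')
  have s8 : ∀ m, 128 * s2 m ≤ s2 (m + 8) := fun m => (mul_comm _ _).trans_le
    ((Nat.mul_le_mul_left _ (by decide +kernel)).trans (s2_mul_le _ 8))
  obtain rfl | ha : a = 1 ∨ 2 ≤ a := by omega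
  · rw [pow_one] at hv ⊢
    have : p ^ v ≤ p := (Nat.pow_le_pow_right hp.pos (show v ≤ 1 by
      by_contra! k
      have := Nat.mul_le_mul_left (p - 1) k
      omega)).trans (pow_one p).le
    have key : ∀ m, 3 * (m + 8) ≤ s2 (m + 8) := fun m => by
      induction m using Nat.strong_induction_on with | h m ih => ?_
      by_cases hm : m < 8
      · interval_cases m <;> decide +kernel
      have := ih (m - 8) (by omega)
      have := s8 m
      rw [show m - 8 + 8 = m by omega] at *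
      omega
    by_cases h8 : 8 ≤ p
    · exact .inl ((by omega : _ ≤ 3 * (p - 8 + 8)).trans ((key _).trans (s2_mono (by omega))))
    have : p ≠ 4 := by rintro rfl; norm_num at hp
    exact .inr (.inl ⟨‹_›, by omega⟩)
  by_cases h9 : p = 3 ∧ a = 2
  · obtain ⟨rfl, rfl⟩ := h9
    exact .inr (.inr ⟨rfl, Nat.pow_le_pow_right (by omega) (show v ≤ 4 by omega)⟩)
  have h25 : 25 ≤ p ^ a := by
    by_cases h3 : p = 3
    · exact h3 ▸ (by norm_num : 25 ≤ 3 ^ 3).trans (Nat.pow_le_pow_right (by omega) (by omega))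
    have : p ≠ 4 := by rintro rfl; norm_num at hp
    exact (Nat.pow_le_pow_left (show 5 ≤ p by omega) 2).trans (Nat.pow_le_pow_right hp.pos ha)
  have key : ∀ j, 3 ^ (j + 13) ≤ s2 (2 * j + 25) := fun j => by
    induction j using Nat.strong_induction_on with | h j ih => ?_
    by_cases hj : j < 4
    · interval_cases j <;> decide +kernel
    obtain ⟨j, rfl⟩ : ∃ i, j = i + 4 := ⟨j - 4, by omega⟩
    have := ih j (by omega)
    have := s8 (2 * j + 25)
    rw [show 2 * (j + 4) + 25 = 2 * j + 25 + 8 by omega, add_right_comm, pow_add _ _ 4]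
    omega
  obtain ⟨j, hj⟩ := (hp.odd_of_ne_two h2).pow (n := a)
  obtain ⟨i, rfl⟩ := hp.odd_of_ne_two h2
  have : ∀ i, 2 * i + 1 ≤ 3 ^ i := fun i => by
    induction i with
    | zero => rfl
    | succ i ih => rw [pow_succ]; omega
  refine .inl ((Nat.mul_le_mul_left _ (Nat.pow_le_pow_left (this i) v)).trans ?_)
  rw [← pow_mul, ← _root_.pow_succ', hj, show 2 * j + 1 = 2 * (j - 12) + 25 by omega]
  refine (Nat.pow_le_pow_right (by omega) ?_).trans (key _)
  rw [Nat.add_sub_cancel, mul_assoc] at hv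
  omega

theorem tb_coprime {u v m t : ℕ} (hu : 3 ≤ u) (hv : 2 ≤ v) (hc : u.Coprime v) (hm : u * v ≤ m)
    (ht : t ≤ nilS u * nilS v) (h : m ≤ t) : TB m t := by
  by_cases h4 : u + v + 4 ≤ u * v
  · have a := Nat.mul_le_mul (nilS_le u).2 (nilS_le v).2
    have b := s2_mul_le u v
    have c := s2_mul_le (u + v) 4
    have d := s2_mono (h4.trans hm)
    rw [show s2 4 = 8 by decide +kernel] at c
    exact .inl (by nlinarith)
  have : u ≤ 5 := by nlinarith
  have : v ≤ 3 := by nlinarith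
  have e : nilS 2 = 2 ∧ nilS 3 = 3 ∧ nilS 5 = 8 ∧ s2 10 = 256 := by decide +kernel
  obtain ⟨rfl, rfl⟩ | ⟨rfl, rfl⟩ : u = 3 ∧ v = 2 ∨ u = 5 ∧ v = 2 := by
    interval_cases u <;> interval_cases v <;> first | omega | norm_num at hc
  · rw [e.1, e.2.1] at ht
    exact .inr (.inl ⟨by omega, by omega⟩)
  · have := s2_mono hm
    rw [e.1, e.2.2.1] at ht
    exact .inl (by norm_num [e] at this; omega)

section
variable (G α : Type*) [Group G] [MulAction G α] [FaithfulSMul G α] [Finite α]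

theorem card_dvd_factorial : Nat.card G ∣ (Nat.card α)! :=
  Nat.card_perm (α := α) ▸ card_dvd_of_injective (toPermHom G α) toPerm_injective

end

theorem tb_of_transitive {G β : Type} [Group G] [MulAction G β] [FaithfulSMul G β] [Finite β]
    [IsPretransitive G β] [Group.IsNilpotent G] {p : ℕ} (hp : p.Prime) (h2 : p ≠ 2)
    (hd : p ∣ Nat.card β) (x : β) (ih : ∀ (H α : Type) [Group H] [MulAction H α] [FaithfulSMul H α]
      [Finite α] [Group.IsNilpotent H], Nat.card α < Nat.card β → Nat.card H ≤ nilS (Nat.card α)) :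
    TB (Nat.card β) (Nat.card G) := by
  haveI := Fact.mk hp
  haveI : Finite G := .of_injective _ (toPerm_injective (α := G) (β := β))
  obtain ⟨P, Q, _, hQ⟩ := Transfer.hasNormalPComplement_of_isNilpotent (p := p) (G := G)
  have hm := index_stabilizer_of_transitive G x
  have key : ∀ R S : Subgroup G, R.Normal → S.Normal → R.IsComplement' S →
      FaithfulSMul R (orbit R x) ∧ Nat.card (orbit R x) ∣ Nat.card β ∧
      Nat.card (orbit R x) ∣ Nat.card R ∧ (Nat.card (orbit R x) = 1 → Nat.card R = 1) :=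
    fun R S _ _ h => by
    have : FaithfulSMul R (orbit R x) := ⟨fun {a b} k => Subtype.ext (eq_of_smul_eq_smul fun y : β => by
      obtain ⟨g, rfl⟩ := exists_smul_eq G x y
      obtain ⟨⟨s, r⟩, rfl⟩ := h.symm.2 g
      have c := fun a : R => (commute_of_normal_of_disjoint R S ‹_› ‹_› h.disjoint _ _ a.2 s.2).eq
      simp only [← mul_smul, ← mul_assoc, c]
      simpa only [mul_smul] using! congrArg (fun z : orbit R x => (s : G) • (z : β)) (k ⟨_, r, rfl⟩))⟩
    refine ⟨this, (IsBlock.orbit_of_normal x).ncard_dvd_card (nonempty_orbit x),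
      (index_stabilizer R x).symm.dvd.trans (index_dvd_card _), fun k => ?_⟩
    simpa [k] using card_dvd_factorial R (orbit R x)
  obtain ⟨_, p1, p2, p3⟩ := key P Q inferInstance ‹_› hQ.symm
  obtain ⟨_, q1, q2, q3⟩ := key Q P ‹_› inferInstance hQ
  obtain ⟨v, hv⟩ := P.2.exists_card_eq
  have hG : Nat.card G = Nat.card P * Nat.card Q := hQ.symm.card_mul_card.symm
  have dv : Nat.card β ∣ Nat.card G := hm ▸ index_dvd_card _
  have hc : (Nat.card P).Coprime (Nat.card Q) := hQ.index_eq_card ▸ P.card_coprime_index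
  by_cases h1 : Nat.card (orbit Q x) = 1
  · rw [q3 h1, mul_one, hv] at hG
    obtain ⟨a, -, ha⟩ := (dvd_prime_pow hp).1 (hG ▸ dv)
    rw [ha, hG]
    exact tb_pow hp h2 (by rintro rfl; exact hp.ne_one (by simpa [ha] using hd))
      (ha ▸ hG ▸ card_dvd_factorial G β)
  have hc' := (hc.coprime_dvd_left p2).coprime_dvd_right q2
  have h3 : 3 ≤ Nat.card (orbit P x) := by
    obtain ⟨a, -, ha⟩ := (dvd_prime_pow hp).1 (hv ▸ p2)
    have : a ≠ 0 := by
      rintro rfl
      exact P.not_dvd_index (hQ.index_eq_card ▸ by simpa [hG, p3 ha] using hd.trans dv)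
    have := hp.two_le
    exact ha ▸ (by omega : 3 ≤ p).trans (Nat.le_self_pow ‹_› p)
  have h4 : 2 ≤ Nat.card (orbit Q x) := by
    have : Nat.card (orbit Q x) ≠ 0 := ne_zero_of_dvd_ne_zero Nat.card_pos.ne' q2
    omega
  haveI : Nonempty β := ⟨x⟩
  have le := Nat.le_of_dvd Nat.card_pos (hc'.mul_dvd_of_dvd_of_dvd p1 q1)
  exact tb_coprime h3 h4 hc' le (hG ▸ Nat.mul_le_mul (ih _ _ (by nlinarith)) (ih _ _ (by nlinarith)))
    (Nat.le_of_dvd Nat.card_pos dv)

theorem card_nilpotent_le (n : ℕ) : ∀ (G α : Type) [Group G] [MulAction G α] [FaithfulSMul G α]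
    [Fintype α] [DecidableEq α] [Group.IsNilpotent G], Nat.card α = n → Nat.card G ≤ nilS n ∧
      ((∀ g : G, Perm.sign (toPerm g : Perm α) = 1) → 2 * Nat.card G ≤ nilA n) := by
  classical
  induction n using Nat.strong_induction_on with | h n ih => ?_
  rintro G α _ _ _ _ _ _ rfl
  haveI : Finite G := .of_injective _ (toPerm_injective (α := G) (β := α))
  by_cases h2 : IsPGroup 2 G
  · obtain ⟨k, hk⟩ := h2.exists_card_eq
    refine ⟨(hk ▸ le_s2 (hk ▸ card_dvd_factorial G α)).trans (nilS_le _).1, fun h => ?_⟩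
    rcases subsingleton_or_nontrivial α with _ | _
    · have a := card_dvd_factorial G α
      have b : Nat.card α ≤ 1 := Finite.card_le_one_iff_subsingleton.2 ‹_›
      rw [factorial_eq_one.2 b, Nat.dvd_one] at a
      rw [a, nilA, if_pos b]
    have := card_dvd_of_injective ((toPermHom G α).codRestrict (alternatingGroup α) h)
      fun a b k => toPerm_injective (congrArg Subtype.val k)
    have := Nat.mul_dvd_mul_left 2 this
    rw [two_mul_nat_card_alternatingGroup, Nat.card_perm, hk, ← _root_.pow_succ'] at this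
    rw [hk, ← _root_.pow_succ']
    exact (le_s2 this).trans ((nilS_le _).1.trans (nilA_le _).1)
  obtain ⟨p, hp, hd, h3⟩ : ∃ p, p.Prime ∧ p ∣ Nat.card G ∧ p ≠ 2 := by
    by_contra! k
    exact h2 (.of_card (eq_prime_pow_of_unique_prime_dvd Nat.card_pos.ne' fun {d} => k d))
  haveI := Fact.mk hp
  obtain ⟨x, hx⟩ : ∃ x : α, p ∣ Nat.card (orbit G x) := by
    by_contra! k
    obtain ⟨P⟩ : Nonempty (Sylow p G) := inferInstance
    refine P.ne_bot_of_dvd_card hd (eq_bot_iff.2 fun g hg => eq_of_smul_eq_smul fun x : α => ?_)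
    obtain ⟨⟨_, y, rfl⟩, hy⟩ := P.2.nonempty_fixed_point_of_prime_not_dvd_card _ (k x)
    have := congrArg Subtype.val (hy ⟨y * g * y⁻¹, Normal.conj_mem inferInstance _ hg _⟩)
    change (y * g * y⁻¹) • y • x = y • x at this
    simpa [mul_smul] using this
  have hk : (toPermHom G (orbit G x)).ker = fixingSubgroup G (orbit G x) := by
    ext g
    simp [Equiv.ext_iff, mem_fixingSubgroup_iff, Subtype.ext_iff]
  have e : Nat.card (SubMulAction.ofFixingSubgroup G (orbit G x)) + Nat.card (orbit G x) =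
      Nat.card α := by
    rw [add_comm]
    exact Set.ncard_add_ncard_compl (orbit G x)
  haveI : Group.IsNilpotent (toPermHom G (orbit G x)).range :=
    Group.nilpotent_of_surjective _ (MonoidHom.rangeRestrict_surjective _)
  haveI : IsPretransitive (toPermHom G (orbit G x)).range (orbit G x) := ⟨fun a b =>
    (exists_smul_eq G a b).elim fun g hg => ⟨⟨_, g, rfl⟩, hg⟩⟩
  have hT := (tb_of_transitive (G := (toPermHom G (orbit G x)).range) hp h3 hx ⟨x, mem_orbit_self x⟩
    fun H β _ _ _ _ _ k => have := Fintype.ofFinite β; (ih _ (by omega) H β rfl).1).mul_le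
    (Nat.card (SubMulAction.ofFixingSubgroup G (orbit G x)))
  haveI : FaithfulSMul (fixingSubgroup G (orbit G x)) (SubMulAction.ofFixingSubgroup G (orbit G x)) :=
    ⟨fun {a b} k => Subtype.ext (eq_of_smul_eq_smul fun y : α => by
      by_cases hy : y ∈ orbit G x
      · exact (a.2 ⟨y, hy⟩).trans (b.2 ⟨y, hy⟩).symm
      · exact congrArg Subtype.val (k ⟨y, hy⟩))⟩
  haveI : Nonempty (orbit G x) := ⟨⟨x, mem_orbit_self x⟩⟩
  have := Nat.card_pos (α := orbit G x)
  have hI := ih _ (by omega) (fixingSubgroup G (orbit G x)) (SubMulAction.ofFixingSubgroup G (orbit G x)) rfl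
  rw [e] at hT
  rw [← (fixingSubgroup G (orbit G x)).index_mul_card, ← hk, index_ker, hk]
  refine ⟨(Nat.mul_le_mul_left _ hI.1).trans hT.1, fun h => (mul_left_comm _ _ _).trans_le
    ((Nat.mul_le_mul_left _ (hI.2 fun g => ?_)).trans hT.2)⟩
  rw [← h g, ← Perm.sign_subtypePerm (toPerm (g : G)) (p := (· ∈ SubMulAction.ofFixingSubgroup G _))
    (fun z => SubMulAction.smul_mem_iff' _ g) fun z hz k => hz (g.2 ⟨z, k⟩)]
  rfl

theorem card_sylow_perm {n : ℕ} (P : Sylow 2 (Perm (Fin n))) : Nat.card P = s2 n := by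
  rw [P.card_eq_multiplicity, card_perm_fin, s2]

theorem card_sylow_alt {n : ℕ} (hn : 2 ≤ n) (P : Sylow 2 (alternatingGroup (Fin n))) :
    2 * Nat.card P = s2 n := by
  rw [P.card_eq_multiplicity, s2, ← two_mul_card_alt_fin hn,
    Nat.factorization_mul two_ne_zero Nat.card_pos.ne', ← _root_.pow_succ']
  simp [add_comm, prime_two.factorization_self]

theorem conj_of_max {Γ : Type*} [Group Γ] [Finite Γ] {k : ℕ}
    (H : ∀ N : Subgroup Γ, Group.IsNilpotent N → Nat.card N ≤ 3 * 2 ^ k)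
    (hc : ∀ c d : Γ, orderOf c = 3 → orderOf d = 3 → 2 ^ k ∣ Nat.card (centralizer {c}) →
      2 ^ k ∣ Nat.card (centralizer {d}) → IsConj c d) {N M : Subgroup Γ}
    (hN : Group.IsNilpotent N) (hM : Group.IsNilpotent M) (h1 : Nat.card N = 3 * 2 ^ k)
    (h2 : Nat.card M = 3 * 2 ^ k) : ∃ g, M = N.map (MulAut.conj g).toMonoidHom := by
  haveI := Fact.mk prime_three
  have prod : ∀ {c : Γ} {R : Subgroup Γ}, orderOf c = 3 → IsPGroup 2 R → R ≤ centralizer {c} →
      Group.IsNilpotent ↥(R ⊔ zpowers c) ∧ Nat.card ↥(R ⊔ zpowers c) = 3 * Nat.card R :=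
    fun {c R} h3 hR hle => by
    have hz : IsPGroup 3 (zpowers c) := .of_card (n := 1) (by rw [Nat.card_zpowers, h3]; rfl)
    haveI := hR.isNilpotent
    haveI := hz.isNilpotent
    have e := MonoidHom.ofInjective ((MonoidHom.noncommCoprod_injective R.subtype (zpowers c).subtype
      fun a ⟨_, i, rfl⟩ => Commute.zpow_right (mem_centralizer_singleton_iff.1 (hle a.2)) i).2
      ⟨R.subtype_injective, (zpowers c).subtype_injective, by
        simpa using IsPGroup.disjoint_of_ne 2 3 (by omega) _ _ hR hz⟩)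
    rw [MonoidHom.noncommCoprod_range, range_subtype, range_subtype] at e
    exact ⟨Group.nilpotent_of_mulEquiv e, by
      rw [← Nat.card_congr e.toEquiv, Nat.card_prod, Nat.card_zpowers, h3, mul_comm]⟩
  have str : ∀ {N : Subgroup Γ}, Group.IsNilpotent N → Nat.card N = 3 * 2 ^ k → ∀ c : N,
      orderOf c = 3 → 2 ^ k ∣ Nat.card (centralizer {c.1}) ∧ ∃ P : Sylow 2 (centralizer {c.1}),
        N = P.1.map (Subgroup.subtype _) ⊔ zpowers c.1 := fun {N} hN h c h3 => by
    obtain ⟨K, hK⟩ := Sylow.exists_subgroup_card_pow_prime (G := N) 2 (h ▸ dvd_mul_left _ 3)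
    have k1 : Nat.card (K.map N.subtype) = 2 ^ k := (Subgroup.card_subtype _ _).trans hK
    have k2 : K.map N.subtype ≤ centralizer {c.1} := by
      rintro _ ⟨a, ha, rfl⟩
      exact mem_centralizer_singleton_iff.2 (Commute.map (Core.commute_of_coprime_orderOf
        (Coprime.coprime_dvd_left (hK ▸ K.orderOf_dvd_natCard ha) (h3 ▸ Coprime.pow_left _
          (by norm_num)))) N.subtype)
    rw [← orderOf_coe] at h3
    obtain ⟨P, hP⟩ := ((IsPGroup.of_card k1).comap_subtype (K := centralizer {c.1})).exists_le_sylow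
    have a := prod h3 (P.2.map _) (map_subtype_le _)
    have b : K.map N.subtype ≤ P.1.map (Subgroup.subtype _) := fun x hx => ⟨⟨x, k2 hx⟩, hP hx, rfl⟩
    refine ⟨k1 ▸ card_dvd_of_le k2, P, .trans (eq_of_le_of_card_ge (sup_le (map_subtype_le _)
      (zpowers_le.2 c.2)) ?_).symm (eq_of_le_of_card_ge (sup_le_sup_right b _) ?_)⟩ <;>
      rw [(prod h3 (.of_card k1) k2).2, k1]
    exacts [h.le, H _ a.1]
  obtain ⟨c, c1⟩ := exists_prime_orderOf_dvd_card' (G := N) 3 (h1 ▸ dvd_mul_right _ _)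
  obtain ⟨⟨d, hd⟩, d1⟩ := exists_prime_orderOf_dvd_card' (G := M) 3 (h2 ▸ dvd_mul_right _ _)
  obtain ⟨d2, Q, hQ⟩ := str hM h2 _ d1
  obtain ⟨g, hg⟩ := isConj_iff.1 (hc c d (by rwa [orderOf_coe]) (by rwa [← orderOf_coe] at d1)
    (str hN h1 c c1).1 d2)
  obtain ⟨-, P, hP⟩ := str (N := N.map (MulAut.conj g).toMonoidHom)
    (Group.nilpotent_of_mulEquiv (N.equivMapOfInjective _ (MulAut.conj g).injective))
    ((card_map_of_injective (MulAut.conj g).injective).trans h1) ⟨d, c, c.2, hg⟩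
    (by rwa [← orderOf_coe] at d1 ⊢)
  obtain ⟨h, rfl⟩ := exists_smul_eq (centralizer {d}) P Q
  refine ⟨h * g, ?_⟩
  rw [map_mul, show (MulAut.conj h.1 * MulAut.conj g).toMonoidHom =
    (MulAut.conj h.1).toMonoidHom.comp (MulAut.conj g).toMonoidHom from rfl, ← Subgroup.map_map, hP, hQ,
    Subgroup.map_sup, MonoidHom.map_zpowers, Subgroup.map_map, Sylow.coe_subgroup_smul,
    pointwise_smul_def]
  refine congrArg₂ _ (Subgroup.map_map _ _ _) (congrArg _ ?_)
  simp [mem_centralizer_singleton_iff.1 h.2]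

theorem isThreeCycle_of_dvd {n k : ℕ} (hn : n % 4 = 3) (hk : s2 (n - 3) ≤ 2 * 2 ^ k)
    {c : Perm (Fin n)} (hc : orderOf c = 3) (h : 2 ^ k ∣ Nat.card (centralizer {c})) :
    c.IsThreeCycle := by
  obtain ⟨j, hj⟩ := Perm.cycleType_prime_order (hc ▸ prime_three)
  have hs := c.sum_cycleType_le
  rw [Perm.nat_card_centralizer, hj, hc, Multiset.toFinset_replicate, if_neg (by omega),
    Finset.prod_singleton, Multiset.count_replicate_self, Multiset.prod_replicate, mul_right_comm] at h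
  simp only [hj, hc, Multiset.sum_replicate, smul_eq_mul, Fintype.card_fin] at h hs
  obtain rfl | h0 := j.eq_zero_or_pos
  · exact hj.trans (by rw [hc]; rfl)
  have := le_s2 (((Coprime.pow k (j + 1) (by norm_num)).dvd_of_dvd_mul_right h).trans
    ((factorial_mul_factorial_dvd_factorial_add _ _).trans (factorial_dvd_factorial
      (show _ ≤ 4 * (n / 4 - 1) + 3 by omega))))
  have h4 := s2_four (n / 4 - 1)
  have : 0 < s2 (4 * (n / 4 - 1)) := pow_pos two_pos _
  rw [show n - 3 = 4 * (n / 4 - 1) + 4 by omega] at hk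
  omega

theorem exists_prod_three (m : ℕ) : ∃ f : Perm (Fin m) × Multiplicative (ZMod 3) →* Perm (Fin (m + 3)),
    Function.Injective f ∧ ∀ x, Perm.sign (f x) = Perm.sign x.1 :=
  ⟨finSumFinEquiv.permCongrHom.toMonoidHom.comp ((Perm.sumCongrHom _ _).comp
    ((MonoidHom.id _).prodMap (toPermHom (Multiplicative (ZMod 3)) (ZMod 3)))),
    finSumFinEquiv.permCongrHom.injective.comp (Perm.sumCongrHom_injective.comp
      (Function.injective_id.prodMap (show Function.Injective
        (toPermHom (Multiplicative (ZMod 3)) (ZMod 3)) by decide))), fun x => by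
    have : ∀ y : Multiplicative (ZMod 3), Perm.sign (toPerm y : Perm (ZMod 3)) = 1 := by decide
    exact (Perm.sign_permCongr _ _).trans ((Perm.sign_sumCongr _ _).trans
      ((congrArg (Perm.sign x.1 * ·) (this x.2)).trans (mul_one _)))⟩

end Cfsg.Lib.Alt
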