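import Cfsg.Agent.Lib.CharDeg.SylAlt

/-! Sylow 2-subgroups of symmetric groups, and of alternating groups of degree at least 6,
are self-normalizing. -/

set_option autoImplicit false

namespace Cfsg.Lib.Alt.SylNorm

open Equiv Equiv.Perm Subgroup MulAction

universe u

/-- The permutations fixing each pair `{x, z x}`. -/
def base {Ω : Type*} (z : Perm Ω) (hz : ∀ w, z (z w) = w) : Subgroup (Perm Ω) where
  carrier := {σ | ∀ x, σ x = x ∨ σ x = z x}
  one_mem' := fun _ => Or.inl rfl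
  mul_mem' := by
    intro σ τ hσ hτ x
    rw [Perm.mul_apply]
    rcases hτ x with h | h <;> rw [h]
    · exact hσ x
    · rcases hσ (z x) with h' | h'
      · exact Or.inr h'
      · exact Or.inl (h'.trans (hz x))
  inv_mem' := by
    intro σ hσ x
    rcases hσ (σ⁻¹ x) with h | h
    · exact Or.inl (by rw [← h]; simp)
    · refine Or.inr ?_
      have h1 : x = z (σ⁻¹ x) := by rw [← h]; simp
      rw [← hz (σ⁻¹ x), ← h1]

theorem mem_base {Ω : Type*} {z : Perm Ω} {hz : ∀ w, z (z w) = w} {σ : Perm Ω} :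
    σ ∈ base z hz ↔ ∀ x, σ x = x ∨ σ x = z x := Iff.rfl

theorem base_sq {Ω : Type*} {z : Perm Ω} {hz : ∀ w, z (z w) = w} {σ : Perm Ω}
    (h : σ ∈ base z hz) : σ * σ = 1 := by
  ext x
  rw [Perm.mul_apply, Perm.one_apply]
  rcases h x with h1 | h1
  · rw [h1, h1]
  · rcases h (z x) with h2 | h2
    · have h3 : x = z x := σ.injective (h1.trans h2.symm)
      rw [h1, h2, ← h3]
    · rw [h1, h2, hz]

theorem base_comm {Ω : Type*} {z : Perm Ω} {hz : ∀ w, z (z w) = w} {σ : Perm Ω}
    (h : σ ∈ base z hz) (x : Ω) : z (σ x) = σ (z x) := by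
  rcases h x with h1 | h1 <;> rcases h (z x) with h2 | h2
  · rw [h1, h2]
  · have h3 : x = z x := σ.injective (by rw [h1, h2, hz])
    rw [h1, ← h3, h1]
  · have h3 : x = z x := σ.injective (h1.trans h2.symm)
    rw [h1, h2, ← h3, ← h3]
  · rw [h1, h2]

theorem swap_mem_base {Ω : Type*} [DecidableEq Ω] {z : Perm Ω} (hz : ∀ w, z (z w) = w) (y : Ω) :
    swap y (z y) ∈ base z hz := fun x => by
  by_cases h1 : x = y
  · subst h1; simp
  by_cases h2 : x = z y
  · subst h2; simp [hz]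
  exact Or.inl (swap_apply_of_ne_of_ne h1 h2)

/-- The pairing preserved by a Sylow 2-subgroup of a symmetric group. -/
theorem exists_pairing {Ω : Type*} [Fintype Ω] [DecidableEq Ω] (T : Sylow 2 (Perm Ω)) :
    ∃ (z : Perm Ω) (hz : ∀ w, z (z w) = w), (∀ a b, z a = a → z b = b → a = b) ∧
      (∀ t ∈ (T : Subgroup (Perm Ω)), ∀ w, z (t w) = t (z w)) ∧ base z hz ≤ T := by
  classical
  let X : SubMulAction (T : Subgroup (Perm Ω)) Ω :=
    { carrier := {x | ∃ r : (T : Subgroup (Perm Ω)), r • x ≠ x}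
      smul_mem' := by
        rintro c x ⟨r, hr⟩
        refine ⟨c * r * c⁻¹, fun h => hr ?_⟩
        rw [mul_smul, mul_smul, inv_smul_smul] at h
        exact smul_left_cancel c h }
  obtain ⟨ζ, h1, h2, h3⟩ := CharDeg.SylAlt.exists_inv (X := X) T.isPGroup' fun x => by
    obtain ⟨r, hr⟩ := x.2
    exact ⟨r, fun h => hr (congrArg Subtype.val h)⟩
  have hmax : ∀ E : Subgroup (Perm Ω), IsPGroup 2 E → (T : Subgroup (Perm Ω)) ≤ normalizer E →
      E ≤ T := fun E hE hn => by
    have := T.is_maximal' (T.isPGroup'.to_sup_of_normal_right' hE hn) le_sup_left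
    exact le_sup_right.trans this.le
  have hinv : Function.Involutive fun w => if h : w ∈ X then (ζ ⟨w, h⟩ : Ω) else w := fun w => by
    by_cases h : w ∈ X
    · simp only [h, dif_pos, (ζ ⟨w, h⟩).2, Subtype.coe_eta, h1]
    · simp only [h, dif_neg, not_false_eq_true]
  have hX : ∀ w, ∀ h : w ∈ X, hinv.toPerm _ w = ζ ⟨w, h⟩ := fun w h => dif_pos h
  have hX' : ∀ w, w ∉ X → hinv.toPerm _ w = w := fun w h => dif_neg h
  have hfix : ∀ w, w ∉ X → ∀ t ∈ (T : Subgroup (Perm Ω)), t w = w := fun w h t ht => by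
    by_contra hne
    exact h ⟨⟨t, ht⟩, hne⟩
  have hcomm : ∀ t ∈ (T : Subgroup (Perm Ω)), ∀ w, hinv.toPerm _ (t w) = t (hinv.toPerm _ w) := by
    intro t ht w
    by_cases h : w ∈ X
    · have h' : t w ∈ X := X.smul_mem ⟨t, ht⟩ h
      rw [hX _ h, hX _ h']
      exact congrArg Subtype.val (h3 ⟨t, ht⟩ ⟨w, h⟩)
    · rw [hX' _ h, hfix w h t ht, hX' _ h]
  refine ⟨hinv.toPerm _, hinv, fun a b ha hb => ?_, hcomm, hmax _ ?_ fun t ht => ?_⟩
  · by_contra hab
    have hn : ∀ w, hinv.toPerm _ w = w → w ∉ X := fun w hw h =>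
      h2 ⟨w, h⟩ (Subtype.ext ((hX w h).symm.trans hw))
    have h4 : zpowers (swap a b) ≤ T := by
      refine hmax _ (IsPGroup.of_card (n := 1) ?_) fun t ht => ?_
      · rw [Nat.card_zpowers, (isSwap_iff_cycleType.1 ⟨a, b, hab, rfl⟩ ▸ lcm_cycleType _ :
          Multiset.lcm {2} = orderOf (swap a b)).symm]
        rfl
      · refine centralizer_le_normalizer _ (mem_centralizer_iff.2 ?_)
        rintro _ ⟨k, rfl⟩
        refine (Commute.zpow_left ?_ k).eq
        rw [Commute, SemiconjBy, mul_swap_eq_swap_mul, hfix a (hn a ha) t ht,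
          hfix b (hn b hb) t ht]
    have := hfix a (hn a ha) _ (h4 (mem_zpowers _))
    rw [swap_apply_left] at this
    exact hab this.symm
  · intro σ
    exact ⟨1, Subtype.ext (by rw [pow_one, pow_two]; exact base_sq σ.2)⟩
  · have key : ∀ t ∈ (T : Subgroup (Perm Ω)), ∀ σ ∈ base (hinv.toPerm _) hinv,
        t * σ * t⁻¹ ∈ base (hinv.toPerm _) hinv := fun t ht σ hσ x => by
      rcases hσ (t⁻¹ x) with h | h
      · exact Or.inl (by rw [Perm.mul_apply, Perm.mul_apply, h]; simp)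
      · refine Or.inr ?_
        rw [Perm.mul_apply, Perm.mul_apply, h, ← hcomm t ht]
        simp
    refine mem_normalizer_iff.2 fun σ => ⟨key t ht σ, fun h => ?_⟩
    simpa [mul_assoc] using key t⁻¹ (inv_mem ht) _ h

section Quot
variable {Ω : Type u} [LinearOrder Ω] (z : Perm Ω) (hz : ∀ w, z (z w) = w)

include hz in
theorem min_lt {y : Ω} (h : z y ≠ y) : min y (z y) < z (min y (z y)) := by
  rcases lt_or_gt_of_ne h with h | h
  · rw [min_eq_right h.le, hz]; exact h
  · rw [min_eq_left h.le]; exact h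

include hz in
theorem min_apply {σ : Perm Ω} (hσ : ∀ w, z (σ w) = σ (z w)) (y : Ω) :
    min (σ (min y (z y))) (z (σ (min y (z y)))) = min (σ y) (z (σ y)) := by
  rcases min_choice y (z y) with h | h <;> rw [h]
  rw [← hσ, hz, min_comm]

omit [LinearOrder Ω] in
theorem comm_of_mem {σ : Perm Ω} (h : σ ∈ centralizer {z}) (w : Ω) : z (σ w) = σ (z w) :=
  DFunLike.congr_fun (mem_centralizer_singleton_iff.1 h).symm w

/-- The action of the centralizer of `z` on the 2-cycles of `z`. -/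
@[reducible] def act : MulAction (centralizer ({z} : Set (Perm Ω))) {x // x < z x} where
  smul σ b := ⟨min (σ.1 b) (z (σ.1 b)), min_lt z hz (by
    rw [comm_of_mem z σ.2]; exact fun h => b.2.ne' (σ.1.injective h))⟩
  one_smul b := Subtype.ext (min_eq_left b.2.le)
  mul_smul σ τ b := Subtype.ext (min_apply z hz (comm_of_mem z σ.2) (τ.1 b)).symm

/-- The homomorphism from the centralizer of `z` to the symmetric group of its 2-cycles. -/
def hom : centralizer ({z} : Set (Perm Ω)) →* Perm {x // x < z x} :=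
  letI := act z hz
  toPermHom _ _

theorem hom_apply (σ : centralizer ({z} : Set (Perm Ω))) (b : {x // x < z x}) :
    (hom z hz σ b : Ω) = min (σ.1 b) (z (σ.1 b)) := rfl

theorem hom_eq_one {σ : centralizer ({z} : Set (Perm Ω))} (h : σ.1 ∈ base z hz) :
    hom z hz σ = 1 := by
  ext b
  rw [hom_apply, Perm.one_apply]
  rcases h b with h | h <;> rw [h]
  · exact min_eq_left b.2.le
  · rw [hz]; exact min_eq_right b.2.le

theorem mem_base_of_hom (hu : ∀ a b, z a = a → z b = b → a = b)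
    {σ : centralizer ({z} : Set (Perm Ω))} (h : hom z hz σ = 1) : σ.1 ∈ base z hz := by
  have key : ∀ x, x < z x → σ.1 x = x ∨ σ.1 x = z x := fun x hx => by
    have h1 := hom_apply z hz σ ⟨x, hx⟩
    rw [h, Perm.one_apply] at h1
    rcases min_choice (σ.1 x) (z (σ.1 x)) with h2 | h2
    · exact Or.inl (h1.trans h2).symm
    · exact Or.inr (by rw [← hz (σ.1 x)]; exact congrArg z (h1.trans h2).symm)
  intro x
  rcases lt_trichotomy x (z x) with hx | hx | hx
  · exact key x hx
  · exact Or.inl (hu _ _ (by rw [comm_of_mem z σ.2, ← hx]) hx.symm)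
  · rcases key (z x) (by rwa [hz]) with h2 | h2
    · rw [← comm_of_mem z σ.2] at h2
      exact Or.inl (z.injective h2)
    · rw [← comm_of_mem z σ.2] at h2
      exact Or.inr (z.injective h2)

theorem hom_surjective [Fintype Ω] : Function.Surjective (hom z hz) := by
  classical
  rw [← MonoidHom.range_eq_top, eq_top_iff, ← closure_isSwap, closure_le]
  rintro _ ⟨b, c, hbc, rfl⟩
  have hz' : z⁻¹ = z := by rw [inv_eq_iff_mul_eq_one]; ext w; exact hz w
  have hne : (b : Ω) ≠ c := fun h => hbc (Subtype.ext h)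
  have hd : ∀ a a' : {x // x < z x}, (a : Ω) ≠ z a' := fun a a' h => by
    have h1 := a.2
    rw [h, hz] at h1
    exact lt_asymm h1 a'.2
  have hcomm : Commute (swap (b : Ω) c) (swap (z b) (z c)) := by
    rw [Commute, SemiconjBy, mul_swap_eq_swap_mul, swap_apply_of_ne_of_ne (hd b b).symm (hd c b).symm,
      swap_apply_of_ne_of_ne (hd b c).symm (hd c c).symm]
  refine ⟨⟨swap (b : Ω) c * swap (z b) (z c), mem_centralizer_singleton_iff.2 ?_⟩, ?_⟩
  · rw [← mul_assoc z, mul_swap_eq_swap_mul z, mul_assoc _ z, mul_swap_eq_swap_mul z, hz, hz,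
      ← mul_assoc, hcomm.eq]
  · ext a
    rw [hom_apply]
    have h1 : (swap (b : Ω) c * swap (z b) (z c)) a = (swap b c a : {x // x < z x}) := by
      rw [Perm.mul_apply, swap_apply_of_ne_of_ne (hd a b) (hd a c)]
      exact (Subtype.val_injective.map_swap b c a).symm
    change min ((swap (b : Ω) c * swap (z b) (z c)) a) (z ((swap (b : Ω) c * swap (z b) (z c)) a)) = _
    rw [h1]
    exact min_eq_left (swap b c a).2.le

end Quot

/-- Inductive step. -/
theorem step {Ω : Type u} [Fintype Ω] [LinearOrder Ω] (T : Sylow 2 (Perm Ω)) (z : Perm Ω)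
    (hz : ∀ w, z (z w) = w) (hu : ∀ a b, z a = a → z b = b → a = b)
    (hc : ∀ t ∈ (T : Subgroup (Perm Ω)), ∀ w, z (t w) = t (z w))
    (ih : ∀ (S : Sylow 2 (Perm {x // x < z x})) (g : Perm {x // x < z x}), Odd (orderOf g) →
      g ∈ normalizer (S : Set (Perm {x // x < z x})) → g = 1)
    (H : Subgroup (Perm Ω)) (hH : H ≤ T) (h1 : ∀ t ∈ (T : Subgroup (Perm Ω)), ∃ h ∈ H, h⁻¹ * t ∈ base z hz)
    (h2 : ∀ x y, z x ≠ x → z y ≠ y → y ≠ x → y ≠ z x → ∃ h ∈ H, h x = x ∧ h y ≠ y)
    (h3 : ∀ x, z x ≠ x → ∃ h ∈ H, h x ≠ x) (g : Perm Ω) (hg : Odd (orderOf g))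
    (hn : g ∈ normalizer (H : Set (Perm Ω))) : g = 1 := by
  have hfix : ∀ g ∈ normalizer (H : Set (Perm Ω)), ∀ o, z o = o → z (g o) = g o := by
    intro g hg o ho
    by_contra hne
    obtain ⟨h, hh, hne⟩ := h3 _ hne
    have h4 : g⁻¹ * h * g ∈ H := by simpa using (mem_normalizer_iff.1 (inv_mem hg) h).1 hh
    have h5 : (g⁻¹ * h * g) o = o := hu _ _ (by rw [hc _ (hH h4), ho]) ho
    exact hne (by simpa using congrArg g h5)
  have hmov : ∀ x, z x ≠ x → z (g x) ≠ g x := fun x hx h =>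
    hx (by simpa using hfix g⁻¹ (inv_mem hn) _ h)
  have hgz : g ∈ centralizer {z} := by
    refine mem_centralizer_singleton_iff.2 (Equiv.ext fun x => ?_)
    rw [Perm.mul_apply, Perm.mul_apply]
    by_cases hx : z x = x
    · rw [hx, hfix g hn x hx]
    by_contra hne
    obtain ⟨h, hh, e1, e2⟩ := h2 (g x) (g (z x)) (hmov x hx)
      (hmov _ (by rw [hz]; exact Ne.symm hx)) (fun h => hx (g.injective h)) hne
    have h4 : g⁻¹ * h * g ∈ H := by simpa using (mem_normalizer_iff.1 (inv_mem hn) h).1 hh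
    have h5 := hc _ (hH h4) x
    have h6 : (g⁻¹ * h * g) x = x := by simp [e1]
    rw [h6] at h5
    exact e2 (by simpa using (congrArg g h5).symm)
  have hT : (T : Subgroup (Perm Ω)) ≤ centralizer {z} := fun t ht =>
    mem_centralizer_singleton_iff.2 (Equiv.ext fun w => (hc t ht w).symm)
  let S := (T.subtype hT).mapSurjective (hom_surjective z hz)
  have hS : (S : Subgroup _) = (H.subgroupOf (centralizer {z})).map (hom z hz) := by
    refine le_antisymm ?_ (map_mono fun h hh => hH hh)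
    rintro _ ⟨t, ht, rfl⟩
    obtain ⟨h, hh, e⟩ := h1 t ht
    refine ⟨⟨h, hT (hH hh)⟩, hh, ?_⟩
    have := hom_eq_one z hz (σ := ⟨h, hT (hH hh)⟩⁻¹ * t) e
    rwa [map_mul, map_inv, inv_mul_eq_one] at this
  have h7 := ih S (hom z hz ⟨g, hgz⟩)
    (hg.of_dvd_nat ((orderOf_map_dvd _ _).trans (Subgroup.orderOf_mk _ _).dvd)) (by
      rw [← Sylow.coe_coe, hS]
      refine le_normalizer_map _ ⟨⟨g, hgz⟩, ?_, rfl⟩
      exact mem_normalizer_iff.2 fun h => mem_normalizer_iff.1 hn h.1)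
  have h8 : orderOf g ∣ 2 := orderOf_dvd_of_pow_eq_one (by
    rw [pow_two]; exact base_sq (mem_base_of_hom z hz hu h7))
  rcases (Nat.dvd_prime Nat.prime_two).1 h8 with h | h
  · exact orderOf_eq_one_iff.1 h
  · rw [h] at hg; exact absurd hg (by decide)

theorem perm_aux (n : ℕ) : ∀ {Ω : Type u} [Fintype Ω] [LinearOrder Ω], Fintype.card Ω = n →
    ∀ (T : Sylow 2 (Perm Ω)) (g : Perm Ω), Odd (orderOf g) →
      g ∈ normalizer (T : Set (Perm Ω)) → g = 1 := by
  induction n using Nat.strong_induction_on with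
  | _ n ih =>
  intro Ω _ _ hn T g hg hN
  rcases isEmpty_or_nonempty Ω with h | ⟨⟨x₀⟩⟩
  · exact Subsingleton.elim _ _
  obtain ⟨z, hz, hu, hc, hb⟩ := exists_pairing T
  refine step T z hz hu hc (fun S g => ih _ ?_ rfl S g) T le_rfl
    (fun t ht => ⟨t, ht, by rw [inv_mul_cancel]; exact one_mem _⟩) (fun x y hx hy e1 e2 => ?_)
    (fun x hx => ?_) g hg hN
  · rw [← hn]
    by_cases h : x₀ < z x₀
    · exact Fintype.card_subtype_lt (x := z x₀) (by rw [hz]; exact h.not_gt)
    · exact Fintype.card_subtype_lt h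
  · refine ⟨_, hb (by convert swap_mem_base hz y), swap_apply_of_ne_of_ne e1.symm ?_, by simpa⟩
    rintro rfl
    exact e2 (hz y).symm
  · exact ⟨_, hb (by convert swap_mem_base hz x), by simpa⟩

/-- An odd-order permutation normalizing a Sylow 2-subgroup of the symmetric group is trivial. -/
theorem perm_eq_one {Ω : Type u} [Fintype Ω] [LinearOrder Ω] (T : Sylow 2 (Perm Ω)) (g : Perm Ω)
    (hg : Odd (orderOf g)) (hN : g ∈ normalizer (T : Set (Perm Ω))) : g = 1 :=
  perm_aux _ rfl T g hg hN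

/-- An odd-order permutation normalizing the even part of a Sylow 2-subgroup is trivial. -/
theorem alt_eq_one {Ω : Type u} [Fintype Ω] [LinearOrder Ω] (h6 : 6 ≤ Fintype.card Ω)
    (T : Sylow 2 (Perm Ω)) (g : Perm Ω) (hg : Odd (orderOf g))
    (hN : g ∈ normalizer (((T : Subgroup (Perm Ω)) ⊓ alternatingGroup Ω : Subgroup (Perm Ω)) :
      Set (Perm Ω))) : g = 1 := by
  obtain ⟨z, hz, hu, hc, hb⟩ := exists_pairing T
  have hs : ∀ y, swap y (z y) ∈ base z hz := fun y => by convert swap_mem_base hz y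
  have hpick : ∀ x y, ∃ w, z w ≠ w ∧ w ≠ x ∧ w ≠ z x ∧ w ≠ y ∧ w ≠ z y := fun x y => by
    by_contra hcon
    push Not at hcon
    obtain ⟨o, ho⟩ : ∃ o, ∀ w, z w = w → w = o := by
      by_cases h : ∃ o, z o = o
      · obtain ⟨o, ho⟩ := h
        exact ⟨o, fun w hw => hu _ _ hw ho⟩
      · exact ⟨x, fun w hw => absurd ⟨w, hw⟩ h⟩
    have : (Finset.univ : Finset Ω) ⊆ {o, x, z x, y, z y} := fun w _ => by
      have := ho w
      have := hcon w
      simp only [Finset.mem_insert, Finset.mem_singleton]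
      tauto
    have h1 := (Finset.card_le_card this).trans Finset.card_le_five
    rw [Finset.card_univ] at h1
    omega
  have hflip : ∀ {w x : Ω}, w ≠ z x → x ≠ z w := fun h e => h (by rw [e, hz])
  refine step T z hz hu hc (fun S g => perm_eq_one S g) _ inf_le_left (fun t ht => ?_)
    (fun x y hx hy e1 e2 => ?_) (fun x hx => ?_) g hg hN
  · by_cases h : t ∈ alternatingGroup Ω
    · exact ⟨t, ⟨ht, h⟩, by rw [inv_mul_cancel]; exact one_mem _⟩
    · obtain ⟨x⟩ : Nonempty Ω := Fintype.card_pos_iff.1 (by omega)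
      obtain ⟨w, hw, -⟩ := hpick x x
      refine ⟨t * swap w (z w), ⟨mul_mem ht (hb (hs w)), ?_⟩, by simpa using hs w⟩
      rw [mem_alternatingGroup] at h
      refine mem_alternatingGroup.2 ?_
      rw [map_mul, sign_swap hw.symm, (Int.units_eq_one_or _).resolve_left h]
      rfl
  · obtain ⟨w, hw, e3, e4, e5, e6⟩ := hpick x y
    refine ⟨swap y (z y) * swap w (z w), ⟨mul_mem (hb (hs y)) (hb (hs w)),
      CharDeg.SylAlt.two_swap hy.symm hw.symm⟩, ?_, ?_⟩
    · rw [Perm.mul_apply, swap_apply_of_ne_of_ne e3.symm (hflip e4),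
        swap_apply_of_ne_of_ne e1.symm (hflip e2)]
    · rw [Perm.mul_apply, swap_apply_of_ne_of_ne e5.symm (hflip e6), swap_apply_left]
      exact hy
  · obtain ⟨w, hw, e3, e4, -⟩ := hpick x x
    refine ⟨swap x (z x) * swap w (z w), ⟨mul_mem (hb (hs x)) (hb (hs w)),
      CharDeg.SylAlt.two_swap hx.symm hw.symm⟩, ?_⟩
    rw [Perm.mul_apply, swap_apply_of_ne_of_ne e3.symm (hflip e4), swap_apply_left]
    exact hx

end Cfsg.Lib.Alt.SylNorm
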